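import Mathlib

/-!
The properties of a finite group with a split BN-pair that the classification of its irreducible
representations in the describing characteristic uses.
-/

set_option autoImplicit false

namespace CfsgLib.Modular

/-- A split BN-pair with root elements `x i t`, `y i t` for the fundamental roots and their negatives. -/
structure Ax (G : Type*) [Group G] (p : ℕ) (F : Type*) [Field F] (ι : Type*) where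
  x : ι → F → G
  y : ι → F → G
  h : ι → Fˣ →* G
  n : ι → G
  U : Subgroup G
  V : Subgroup G
  H : Subgroup G
  N : Subgroup G
  U' : ι → Subgroup G
  V' : ι → Subgroup G
  x_add : ∀ i a b, x i (a + b) = x i a * x i b
  y_add : ∀ i a b, y i (a + b) = y i a * y i b
  x_mem : ∀ i t, x i t ∈ U
  y_mem : ∀ i t, y i t ∈ V
  h_mem : ∀ i c, h i c ∈ H
  n_mem : ∀ i, n i ∈ N
  H_le : H ≤ N
  H_comm : ∀ a ∈ H, ∀ b ∈ H, a * b = b * a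
  n_sq : ∀ i, n i * n i = h i (-1)
  n_x : ∀ i t, n i * x i t = y i (-t) * n i
  n_y : ∀ i t, n i * y i t = x i (-t) * n i
  n_h : ∀ i c, n i * h i c = h i c⁻¹ * n i
  y_eq : ∀ (i : ι) (a : Fˣ),
    y i (-((a⁻¹ : Fˣ) : F)) = x i (-(a : F)) * (h i a * n i) * x i (-(a : F))
  conj_H : ∀ g ∈ N, ∀ a ∈ H, g * a * g⁻¹ ∈ H
  comm_H : ∀ i, ∀ a ∈ H, ∃ c : Fˣ, n i * a * (n i)⁻¹ = h i c * a
  H_x : ∀ a ∈ H, ∀ i, ∃ c : Fˣ, ∀ t, a * x i t = x i ((c : F) * t) * a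
  H_U : ∀ a ∈ H, ∀ u ∈ U, a * u * a⁻¹ ∈ U
  H_V : ∀ a ∈ H, ∀ z ∈ V, a * z * a⁻¹ ∈ V
  U'_le : ∀ i, U' i ≤ U
  V'_le : ∀ i, V' i ≤ V
  U_split : ∀ i, ∀ u ∈ U, ∃ t, ∃ u' ∈ U' i, u = x i t * u'
  V_split : ∀ i, ∀ z ∈ V, ∃ z' ∈ V' i, ∃ s, z = z' * y i s
  x_U' : ∀ i t, ∀ u ∈ U' i, x i t * u * (x i t)⁻¹ ∈ U' i
  x_V' : ∀ i t, ∀ z ∈ V' i, x i t * z * (x i t)⁻¹ ∈ V' i
  n_U' : ∀ i, ∀ u ∈ U' i, n i * u * (n i)⁻¹ ∈ U' i
  x_not_U' : ∀ i t, x i t ∈ U' i → t = 0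
  gen : Subgroup.closure (Set.range (fun q : ι × F => x q.1 q.2) ∪ Set.range fun q : ι × F => y q.1 q.2) = ⊤
  pU : IsPGroup p U
  pV : IsPGroup p V
  U_inf_V : U ⊓ V = ⊥
  U_inf_H : U ⊓ H = ⊥
  dich : ∀ g ∈ N, ∀ i, (∀ t, g⁻¹ * x i t * g ∈ U ∧ g⁻¹ * y i t * g ∈ V) ∨
    (∀ t, g⁻¹ * x i t * g ∈ V ∧ g⁻¹ * y i t * g ∈ U)
  inc : ∀ g ∈ N, ∀ i, (∀ t, g⁻¹ * x i t * g ∈ U) → ∀ z ∈ U, g⁻¹ * z * g ∈ V → z ∈ U' i
  top : ∀ g ∈ N, (∀ i t, g⁻¹ * x i t * g ∈ U) → g ∈ H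
  w0 : ∃ n0 ∈ N, (∀ z ∈ V, n0 * z * n0⁻¹ ∈ U) ∧ ∀ u ∈ U, n0⁻¹ * u * n0 ∈ V
  exch : ∀ g ∈ N, ∀ i j, (∀ t, g * x i t * g⁻¹ ∈ U) →
    (∀ t, n j * (g * x i t * g⁻¹) * (n j)⁻¹ ∈ V) → ∃ c : Fˣ, g * n i * g⁻¹ = h j c * n j
  levi : ∀ (l : List ι) (i : ι), i ∉ l → ∀ t, (l.map n).prod⁻¹ * x i t * (l.map n).prod ∈ U
  bruhat : ∀ z : G, ∃ u ∈ U, ∃ g ∈ N, ∃ v ∈ U, z = u * g * v
  bruhat_unique : ∀ u ∈ U, ∀ g ∈ N, ∀ v ∈ U, ∀ g' ∈ N, u * g * v = g' → g = g'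

namespace Ax

variable {G : Type*} [Group G] {p : ℕ} {F : Type*} [Field F] {ι : Type*} (A : Ax G p F ι)

theorem x_zero (i : ι) : A.x i 0 = 1 := by
  have h := A.x_add i 0 0
  rw [add_zero] at h
  exact mul_eq_left.mp h.symm

theorem y_zero (i : ι) : A.y i 0 = 1 := by
  have h := A.y_add i 0 0
  rw [add_zero] at h
  exact mul_eq_left.mp h.symm

theorem x_neg (i : ι) (t : F) : A.x i (-t) = (A.x i t)⁻¹ :=
  eq_inv_of_mul_eq_one_left (by rw [← A.x_add, neg_add_cancel, x_zero])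

/-- `y(s) = x(1/s) (h(-1/s) n) x(1/s)`. -/
theorem y_eq' (i : ι) (s : Fˣ) :
    A.y i (s : F) = A.x i ((s⁻¹ : Fˣ) : F) * (A.h i (-s⁻¹) * A.n i) * A.x i ((s⁻¹ : Fˣ) : F) := by
  have := A.y_eq i (-s⁻¹)
  rw [inv_neg, inv_inv, Units.val_neg, Units.val_neg, neg_neg, neg_neg] at this
  exact this

theorem nw_mem (l : List ι) : (l.map A.n).prod ∈ A.N :=
  list_prod_mem fun g hg => by
    obtain ⟨i, -, rfl⟩ := List.mem_map.mp hg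
    exact A.n_mem i

theorem conj_H' {g : G} (hg : g ∈ A.N) {a : G} (ha : a ∈ A.H) : g⁻¹ * a * g ∈ A.H := by
  have := A.conj_H g⁻¹ (inv_mem hg) a ha
  rwa [inv_inv] at this

theorem inv_n_U' [Finite G] (i : ι) {u : G} (hu : u ∈ A.U' i) : (A.n i)⁻¹ * u * A.n i ∈ A.U' i := by
  have h : ∀ k : ℕ, (A.n i) ^ k * u * ((A.n i) ^ k)⁻¹ ∈ A.U' i := by
    intro k
    induction k with
    | zero => simpa using hu
    | succ k ih =>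
      have := A.n_U' i _ ih
      rw [pow_succ', _root_.mul_inv_rev]
      simpa [mul_assoc] using this
  have := h (orderOf (A.n i) - 1)
  rwa [pow_sub _ (orderOf_pos _), pow_orderOf_eq_one, one_mul, pow_one, inv_inv] at this

end Ax

end CfsgLib.Modular
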