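import Cfsg.Agent.Lib.KnownB.Modular.Exist

/-!
The count: `q ^ l` classes of elements of order prime to `p` when `H` is the product of the images of the
fundamental cocharacters.
-/

set_option autoImplicit false
set_option linter.unusedSectionVars false

namespace CfsgLib.Modular

open CfsgLib.SimpleTrace
open scoped Classical

universe u v

variable {G : Type u} [Group G] [Finite G] {p : ℕ} [Fact p.Prime] {k : Type v} [Field k] [CharP k p]
  {F : Type*} [Field F] [Fintype F] [CharP F p] {ι : Type*} [Fintype ι] (A : Ax G p F ι)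

variable (k) in
/-- The parameters. -/
abbrev Param : Type _ := Σ χ : A.H →* kˣ, {L : Finset ι // ∀ i ∈ L, inK A χ i}

theorem comp_hom_apply (χ : A.H →* kˣ) (i : ι) (c : Fˣ) :
    χ.comp ((A.h i).codRestrict A.H (A.h_mem i)) c = χ ⟨A.h i c, A.h_mem i c⟩ := rfl

/-- The parameters are the choices, root by root, of a character or of a mark. -/
noncomputable def paramEquiv (e : (ι → Fˣ) ≃* A.H) (he : ∀ i c, (e (Pi.mulSingle i c) : G) = A.h i c) :
    Param k A ≃ (ι → Option (Fˣ →* kˣ)) where
  toFun P i := if i ∈ P.2.1 then none else some (P.1.comp ((A.h i).codRestrict A.H (A.h_mem i)))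
  invFun o :=
    ⟨{ toFun := fun a => ∏ i, ((o i).getD 1) (e.symm a i)
       map_one' := by simp
       map_mul' := fun a b => by simp [Finset.prod_mul_distrib] },
      Finset.univ.filter (fun i => o i = none), fun i hi c => by
        rw [Finset.mem_filter] at hi
        have : (⟨A.h i c, A.h_mem i c⟩ : A.H) = e (Pi.mulSingle i c) := Subtype.ext (he i c).symm
        simp only [MonoidHom.coe_mk, OneHom.coe_mk, this, MulEquiv.symm_apply_apply]
        refine Finset.prod_eq_one fun j _ => ?_
        rcases eq_or_ne j i with rfl | hj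
        · rw [hi.2]; rfl
        · rw [Pi.mulSingle_eq_of_ne hj, map_one]⟩
  left_inv P := by
    obtain ⟨χ, L, hL⟩ := P
    have hχ : ∀ i, (if i ∈ L then none else some (χ.comp ((A.h i).codRestrict A.H (A.h_mem i)))).getD 1 =
        χ.comp ((A.h i).codRestrict A.H (A.h_mem i)) := fun i => by
      by_cases h : i ∈ L
      · rw [if_pos h]
        exact MonoidHom.ext fun c => by rw [comp_hom_apply, hL i h c]; rfl
      · rw [if_neg h]; rfl
    have h1 : (MonoidHom.mk (OneHom.mk (fun a : A.H => ∏ i,
        ((if i ∈ L then none else some (χ.comp ((A.h i).codRestrict A.H (A.h_mem i)))).getD 1) (e.symm a i))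
          (by simp)) (fun a b => by simp [Finset.prod_mul_distrib])) = χ := by
      refine MonoidHom.ext fun a => ?_
      obtain ⟨f, rfl⟩ := e.surjective a
      simp only [MonoidHom.coe_mk, OneHom.coe_mk, MulEquiv.symm_apply_apply, hχ, comp_hom_apply]
      show _ = (χ.comp e.toMonoidHom) f
      conv_rhs => rw [← Finset.univ_prod_mulSingle f, map_prod]
      exact Finset.prod_congr rfl fun i _ => congrArg χ (Subtype.ext (he i (f i)).symm)
    refine Sigma.subtype_ext h1 ?_
    ext i
    simp
  right_inv o := funext fun i => by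
    rcases hoi : o i with _ | ψ
    · simp [hoi]
    · dsimp only
      rw [if_neg (by simp [hoi])]
      refine congrArg some (MonoidHom.ext fun c => ?_)
      rw [comp_hom_apply]
      have : (⟨A.h i c, A.h_mem i c⟩ : A.H) = e (Pi.mulSingle i c) := Subtype.ext (he i c).symm
      simp only [MonoidHom.coe_mk, OneHom.coe_mk, this, MulEquiv.symm_apply_apply]
      rw [Finset.prod_eq_single i (fun j _ hj => by rw [Pi.mulSingle_eq_of_ne hj, map_one])
        (fun h => absurd (Finset.mem_univ i) h), Pi.mulSingle_eq_same, hoi]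
      rfl

/-- The count of classes of elements of order prime to `p`. -/
theorem card_pRegular [IsAlgClosed k] (e : (ι → Fˣ) ≃* A.H) (he : ∀ i c, (e (Pi.mulSingle i c) : G) = A.h i c) :
    Nat.card {c : ConjClasses G // ∃ g, ConjClasses.mk g = c ∧ (orderOf g).Coprime p} =
      Fintype.card F ^ Fintype.card ι := by
  haveI : NeZero ((Monoid.exponent Fˣ : ℕ) : k) := ⟨by
    rw [IsCyclic.exponent_eq_card, Nat.card_eq_fintype_card, Fintype.card_units, Nat.cast_sub Fintype.card_pos,
      card_zero A, Nat.cast_one, zero_sub]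
    exact neg_ne_zero.mpr one_ne_zero⟩
  haveI : Finite (Fˣ →* kˣ) := Finite.of_equiv _
    (CommGroup.monoidHom_mulEquiv_of_hasEnoughRootsOfUnity Fˣ k).some.toEquiv.symm
  haveI : Finite (Param k A) := Finite.of_equiv _ (paramEquiv A e he).symm
  letI : Fintype (Param k A) := Fintype.ofFinite _
  choose W iA iM iFD σ v hv0 hirr heig using fun P : Param k A => exists_irr A P.1 P.2.1 P.2.2
  have key := @card_eq_pRegular G _ k _ _ _ p _ _ (Param k A) _ W iA iM iFD σ hirr ?_ ?_
  · rw [← key, ← Nat.card_eq_fintype_card, Nat.card_congr (paramEquiv A e he), Nat.card_pi, Finset.prod_const,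
      Finset.card_univ]
    congr 1
    letI : Fintype (Fˣ →* kˣ) := Fintype.ofFinite _
    rw [Nat.card_eq_fintype_card, Fintype.card_option, ← Nat.card_eq_fintype_card,
      CommGroup.card_monoidHom_of_hasEnoughRootsOfUnity, Nat.card_eq_fintype_card, Fintype.card_units,
      Nat.sub_add_cancel Fintype.card_pos]
  · intro P Q hPQ f hf
    by_contra hf0
    have hinj : LinearMap.ker f = ⊥ := ((hirr P).2 (LinearMap.ker f) fun g x hx => by
      rw [LinearMap.mem_ker] at hx ⊢
      rw [hf, hx, map_zero]).resolve_right fun e => hf0 (LinearMap.ker_eq_top.mp e)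
    obtain ⟨h1, h2⟩ := param_unique A (σ Q) (hirr Q) (fun e => hv0 P (LinearMap.ker_eq_bot.mp hinj (e.trans (map_zero f).symm)))
      (hv0 Q) ((heig P).map A (σ P) f hf) (heig Q)
    apply hPQ
    obtain ⟨χ, L, hL⟩ := P
    obtain ⟨χ', L', hL'⟩ := Q
    dsimp only at h1 h2
    subst h1
    have : L = L' := by
      ext i
      have := congrFun h2 i
      constructor
      · intro hi
        by_contra hi'
        rw [if_neg (fun h => h.2 hi), if_pos ⟨hL i hi, hi'⟩] at this
        exact neg_ne_zero.mpr one_ne_zero this.symm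
      · intro hi'
        by_contra hi
        rw [if_pos ⟨hL' i hi', hi⟩, if_neg (fun h => h.2 hi')] at this
        exact neg_ne_zero.mpr one_ne_zero this
    subst this
    rfl
  · intro U _ _ _ τ hτ
    haveI := hτ.1
    obtain ⟨w, χ, a, hw0, hw⟩ := exists_eig A τ
    let L : Finset ι := Finset.univ.filter fun i => inK A χ i ∧ a i = 0
    have hL : ∀ i ∈ L, inK A χ i := fun i hi => (Finset.mem_filter.mp hi).2.1
    have ha : a = fun i => if inK A χ i ∧ i ∉ L then -1 else 0 := funext fun i => by
      rcases eig_values A τ hw hw0 i with h | ⟨h, hK⟩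
      · rw [h, if_neg (fun e => e.2 (Finset.mem_filter.mpr ⟨Finset.mem_univ i, e.1, h⟩))]
      · rw [h, if_pos ⟨hK, fun hi => neg_ne_zero.mpr one_ne_zero (h.symm.trans (Finset.mem_filter.mp hi).2.2)⟩]
    have hv := heig ⟨χ, L, hL⟩
    dsimp only at hv
    rw [← ha] at hv
    exact ⟨⟨χ, L, hL⟩, traceFun_eq A τ (σ ⟨χ, L, hL⟩) hτ (hirr _) hw0 (hv0 _) hw hv⟩

end CfsgLib.Modular
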