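import Cfsg.Agent.Lib.KnownB.Modular.HighestWeight

/-!
Every pair of a character of `H` and a set of fundamental roots on which it is trivial occurs as
the parameter of an irreducible representation.
-/

set_option autoImplicit false
set_option linter.unusedSectionVars false

namespace CfsgLib.Modular

open CfsgLib.SimpleTrace
open scoped Classical

universe u v

variable {G : Type u} [Group G] [Finite G] {p : ℕ} [Fact p.Prime] {k : Type v} [Field k] [CharP k p]
  {F : Type*} [Field F] [Fintype F] [CharP F p] {ι : Type*} (A : Ax G p F ι) (χ : A.H →* kˣ) (L : Finset ι)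

/-- The word only uses letters from `L`. -/
def InL (l : List ι) : Prop := ∀ j ∈ l, j ∈ L

variable {A χ L}

theorem InL.cons {l : List ι} {j : ι} (hj : j ∈ L) (h : InL L l) : InL L (j :: l) := fun i hi => by
  rcases List.mem_cons.mp hi with rfl | hi
  · exact hj
  · exact h i hi

theorem InL.tail {l : List ι} {j : ι} (h : InL L (j :: l)) : j ∈ L ∧ InL L l :=
  ⟨h j List.mem_cons_self, fun i hi => h i (List.mem_cons_of_mem _ hi)⟩

variable (A χ L)

theorem exists_inv_word {l : List ι} (hl : InL L l) : ∃ l', InL L l' ∧ (l'.map A.n).prod = (l.map A.n).prod⁻¹ := by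
  induction l with
  | nil => exact ⟨[], hl, by simp⟩
  | cons j l ih =>
    obtain ⟨hj, hl'⟩ := hl.tail
    obtain ⟨l', h1, h2⟩ := ih hl'
    refine ⟨l' ++ List.replicate (orderOf (A.n j) - 1) j, fun i hi => ?_, ?_⟩
    · rcases List.mem_append.mp hi with h | h
      · exact h1 i h
      · rw [List.eq_of_mem_replicate h]; exact hj
    · rw [List.map_append, List.prod_append, h2, List.map_replicate, List.prod_replicate,
        pow_sub _ (orderOf_pos _), pow_orderOf_eq_one, one_mul, pow_one, List.map_cons, List.prod_cons,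
        _root_.mul_inv_rev]

variable (hL : ∀ i ∈ L, inK A χ i)
include hL

theorem chi_conj {i : ι} (hi : i ∈ L) (a : A.H) :
    χ ⟨A.n i * a * (A.n i)⁻¹, A.conj_H _ (A.n_mem i) a a.2⟩ = χ a := by
  obtain ⟨c, hc⟩ := A.comm_H i a a.2
  have e : (⟨A.n i * a * (A.n i)⁻¹, A.conj_H _ (A.n_mem i) a a.2⟩ : A.H) = ⟨A.h i c, A.h_mem i c⟩ * a :=
    Subtype.ext hc
  rw [e, map_mul, hL i hi c, one_mul]

theorem chi_conj' {i : ι} (hi : i ∈ L) (a : A.H) :
    χ ⟨(A.n i)⁻¹ * a * A.n i, A.conj_H' (A.n_mem i) a.2⟩ = χ a := by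
  have h := chi_conj A χ L hL hi ⟨(A.n i)⁻¹ * a * A.n i, A.conj_H' (A.n_mem i) a.2⟩
  rw [← h]
  exact congrArg χ (Subtype.ext (by simp [mul_assoc]))

/-- The deletion condition with control of the character. -/
theorem deletion {i : ι} (hi : i ∈ L) : ∀ l : List ι, InL L l →
    (∀ t, (l.map A.n).prod * A.x i t * (l.map A.n).prod⁻¹ ∈ A.V) →
    ∃ l', InL L l' ∧ l'.length < l.length ∧ ∃ a : A.H, χ a = 1 ∧ (l.map A.n).prod * A.n i = a * (l'.map A.n).prod := by
  intro l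
  induction l with
  | nil =>
    intro _ h
    have h1 : A.x i 1 ∈ A.U ⊓ A.V := ⟨A.x_mem i 1, by simpa using h 1⟩
    rw [A.U_inf_V, Subgroup.mem_bot] at h1
    exact absurd (A.x_not_U' i 1 (h1 ▸ one_mem _)) one_ne_zero
  | cons j l ih =>
    intro hjl h
    obtain ⟨hj, hl⟩ := hjl.tail
    set g := (l.map A.n).prod with hgdef
    have hg : g ∈ A.N := A.nw_mem l
    simp only [List.map_cons, List.prod_cons, ← hgdef] at h ⊢
    rcases A.dich g⁻¹ (inv_mem hg) i with hd | hd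
    · obtain ⟨c, hc⟩ := A.exch g hg i j (fun t => by have := (hd t).1; rwa [inv_inv] at this) (fun t => by
        have := h t
        rwa [show A.n j * g * A.x i t * (A.n j * g)⁻¹ = A.n j * (g * A.x i t * g⁻¹) * (A.n j)⁻¹ by group] at this)
      refine ⟨l, hl, Nat.lt_succ_self _, ⟨A.h j c⁻¹ * A.h j (-1), mul_mem (A.h_mem j _) (A.h_mem j _)⟩, ?_, ?_⟩
      · rw [show (⟨A.h j c⁻¹ * A.h j (-1), mul_mem (A.h_mem j _) (A.h_mem j _)⟩ : A.H) =
          ⟨A.h j c⁻¹, A.h_mem j _⟩ * ⟨A.h j (-1), A.h_mem j _⟩ from rfl, map_mul, hL j hj, hL j hj, one_mul]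
      · show A.n j * g * A.n i = A.h j c⁻¹ * A.h j (-1) * g
        rw [mul_assoc, show g * A.n i = g * A.n i * g⁻¹ * g by group, hc, ← mul_assoc, ← mul_assoc, A.n_h, mul_assoc (A.h j c⁻¹),
          A.n_sq]
    · obtain ⟨l', h1, h2, a, ha, e⟩ := ih hl (fun t => by have := (hd t).1; rwa [inv_inv] at this)
      refine ⟨j :: l', InL.cons hj h1, Nat.succ_lt_succ h2, ⟨A.n j * a * (A.n j)⁻¹, A.conj_H _ (A.n_mem j) a a.2⟩,
        by rw [chi_conj A χ L hL hj, ha], ?_⟩
      show A.n j * g * A.n i = A.n j * a * (A.n j)⁻¹ * (A.n j * (l'.map A.n).prod)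
      rw [mul_assoc, e]
      group

/-- Words in `L` lying in `H` are in the kernel of the character. -/
theorem chi_word : ∀ l : List ι, InL L l → ∀ hm : (l.map A.n).prod ∈ A.H, χ ⟨(l.map A.n).prod, hm⟩ = 1 := by
  suffices ∀ (d : ℕ) (l : List ι), l.length = d → InL L l → ∀ hm : (l.map A.n).prod ∈ A.H,
      χ ⟨(l.map A.n).prod, hm⟩ = 1 from fun l => this _ l rfl
  intro d
  induction d using Nat.strong_induction_on with
  | _ d IH =>
  intro l hd hl hm
  rcases List.eq_nil_or_concat l with rfl | ⟨l0, i, rfl⟩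
  · exact (congrArg χ (Subtype.ext (by simp) : (⟨_, hm⟩ : A.H) = 1)).trans (map_one χ)
  have e0 : ((l0.concat i).map A.n).prod = (l0.map A.n).prod * A.n i := by simp
  have hi : i ∈ L := hl i (by simp)
  have hl0 : InL L l0 := fun j hj => hl j (by simp [hj])
  obtain ⟨l', h1, h2, a, ha, e⟩ := deletion A χ L hL hi l0 hl0 fun t => by
    have hm' : (l0.map A.n).prod * A.n i ∈ A.H := e0 ▸ hm
    have h := A.H_V _ hm' _ (A.y_mem i (-t))
    rwa [← n_inv_x A i t, show (l0.map A.n).prod * A.n i * ((A.n i)⁻¹ * A.x i t * A.n i) *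
      ((l0.map A.n).prod * A.n i)⁻¹ = (l0.map A.n).prod * A.x i t * (l0.map A.n).prod⁻¹ by group] at h
  have e1 : ((l0.concat i).map A.n).prod = a * (l'.map A.n).prod := e0.trans e
  have hm1 : (l'.map A.n).prod ∈ A.H := by
    have := mul_mem (inv_mem a.2) hm
    rwa [e1, inv_mul_cancel_left] at this
  rw [show (⟨_, hm⟩ : A.H) = a * ⟨_, hm1⟩ from Subtype.ext e1, map_mul, ha, one_mul]
  exact IH l'.length (by rw [← hd, List.length_concat]; omega) l' rfl h1 hm1

theorem chi_eq {a b : A.H} {l l' : List ι} (hl : InL L l) (hl' : InL L l')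
    (e : (a : G) * (l.map A.n).prod = b * (l'.map A.n).prod) : χ a = χ b := by
  obtain ⟨m, hm, hme⟩ := exists_inv_word A L hl'
  have hlm : InL L (l ++ m) := fun j hj => (List.mem_append.mp hj).elim (hl j) (hm j)
  have e1 : ((l ++ m).map A.n).prod = ((a⁻¹ * b : A.H) : G) := by
    rw [List.map_append, List.prod_append, hme, Subgroup.coe_mul, Subgroup.coe_inv, eq_inv_mul_iff_mul_eq,
      ← mul_assoc, e, mul_inv_cancel_right]
  have hmem : ((l ++ m).map A.n).prod ∈ A.H := by rw [e1]; exact (a⁻¹ * b).2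
  have h := chi_word A χ L hL (l ++ m) hlm hmem
  rw [show (⟨_, hmem⟩ : A.H) = a⁻¹ * b from Subtype.ext e1, map_mul, map_inv, inv_mul_eq_one] at h
  exact h

omit hL

/-- The element is in the support, with value `c`. -/
def Val (n0 z : G) (c : kˣ) : Prop :=
  ∃ (a : A.H) (l : List ι), InL L l ∧ ∃ u ∈ A.U, ∃ v ∈ A.U,
    z = u * ((a : G) * (l.map A.n).prod * n0) * v ∧ c = (χ a)⁻¹

/-- The function spanning the representation. -/
noncomputable def ef (n0 : G) : G → k := fun z => if h : ∃ c, Val A χ L n0 z c then (h.choose : k) else 0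

variable {n0 : G} (hn0 : n0 ∈ A.N)
include hn0

theorem ef_val (hL : ∀ i ∈ L, inK A χ i) {z : G} {c : kˣ} (h : Val A χ L n0 z c) : ef A χ L n0 z = c := by
  have hex : ∃ c, Val A χ L n0 z c := ⟨c, h⟩
  rw [ef, dif_pos hex]
  obtain ⟨a, l, hl, u, hu, w, hw, hz, rfl⟩ := h
  obtain ⟨a', l', hl', u', hu', w', hw', hz', hc⟩ := hex.choose_spec
  rw [hc]
  refine congrArg _ (congrArg _ (chi_eq A χ L hL hl' hl ?_))
  have hN : ∀ (b : A.H) (m : List ι), (b : G) * (m.map A.n).prod * n0 ∈ A.N := fun b m =>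
    mul_mem (mul_mem (A.H_le b.2) (A.nw_mem m)) hn0
  refine mul_right_cancel (b := n0) (A.bruhat_unique (u⁻¹ * u') (mul_mem (inv_mem hu) hu') _ (hN a' l')
    (w' * w⁻¹) (mul_mem hw' (inv_mem hw)) _ (hN a l) ?_)
  rw [show u⁻¹ * u' * ((a' : G) * (l'.map A.n).prod * n0) * (w' * w⁻¹) =
    u⁻¹ * (u' * ((a' : G) * (l'.map A.n).prod * n0) * w') * w⁻¹ by group, ← hz', hz]
  group

omit hn0 in
theorem Val.bi {z : G} {c : kˣ} (h : Val A χ L n0 z c) {u w : G} (hu : u ∈ A.U) (hw : w ∈ A.U) :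
    Val A χ L n0 (u * z * w) c := by
  obtain ⟨a, l, hl, u', hu', w', hw', rfl, hc⟩ := h
  exact ⟨a, l, hl, u * u', mul_mem hu hu', w' * w, mul_mem hw' hw, by group, hc⟩

variable (hL : ∀ i ∈ L, inK A χ i)
include hL

theorem ef_bi (z : G) {u w : G} (hu : u ∈ A.U) (hw : w ∈ A.U) : ef A χ L n0 (u * z * w) = ef A χ L n0 z := by
  by_cases h : ∃ c, Val A χ L n0 z c
  · obtain ⟨c, hc⟩ := h
    rw [ef_val A χ L hn0 hL hc, ef_val A χ L hn0 hL (Val.bi A χ L hc hu hw)]
  · rw [ef, ef, dif_neg h, dif_neg fun ⟨c, hc⟩ => h ⟨c, by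
      have := Val.bi A χ L hc (inv_mem hu) (inv_mem hw)
      rwa [show u⁻¹ * (u * z * w) * w⁻¹ = z by group] at this⟩]

theorem ef_H (z : G) (b : A.H) : ef A χ L n0 ((b : G) * z) = ((χ b)⁻¹ : kˣ) * ef A χ L n0 z := by
  have key : ∀ (z : G) (b : A.H) (c : kˣ), Val A χ L n0 z c → Val A χ L n0 ((b : G) * z) ((χ b)⁻¹ * c) := by
    rintro z b _ ⟨a, l, hl, u, hu, w, hw, rfl, rfl⟩
    exact ⟨b * a, l, hl, (b : G) * u * (b : G)⁻¹, A.H_U b b.2 u hu, w, hw, by rw [Subgroup.coe_mul]; group,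
      by rw [map_mul, mul_inv]⟩
  by_cases h : ∃ c, Val A χ L n0 z c
  · obtain ⟨c, hc⟩ := h
    rw [ef_val A χ L hn0 hL hc, ef_val A χ L hn0 hL (key z b c hc), Units.val_mul]
  · rw [ef, ef, dif_neg h, mul_zero, dif_neg fun ⟨c, hc⟩ => h ⟨_, by
      have := key _ b⁻¹ c hc
      rwa [Subgroup.coe_inv, inv_mul_cancel_left] at this⟩]

/-- For a root outside `L` the support only has decreasing steps. -/
theorem supp_dec (hn0' : ∀ u ∈ A.U, n0⁻¹ * u * n0 ∈ A.V) {g : G} (hg : g ∈ A.N) {i : ι} (hi : i ∉ L)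
    (hinc : ∀ t, g⁻¹ * A.x i t * g ∈ A.U) : ef A χ L n0 g = 0 := by
  rw [ef, dif_neg]
  rintro ⟨c, a, l, hl, u, hu, w, hw, hz, -⟩
  have e := A.bruhat_unique u hu _ (mul_mem (mul_mem (A.H_le a.2) (A.nw_mem l)) hn0) w hw g hg hz.symm
  obtain ⟨d, hd⟩ := A.H_x _ (inv_mem a.2) i
  have h1 := hinc 1
  rw [← e, show ((a : G) * (l.map A.n).prod * n0)⁻¹ * A.x i 1 * ((a : G) * (l.map A.n).prod * n0) =
    n0⁻¹ * ((l.map A.n).prod⁻¹ * ((a : G)⁻¹ * A.x i 1 * a) * (l.map A.n).prod) * n0 by group, hd,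
    inv_mul_cancel_right] at h1
  have h2 := hn0' _ (A.levi l i (fun h => hi (hl i h)) ((d : F) * 1))
  have h3 : n0⁻¹ * ((l.map A.n).prod⁻¹ * A.x i ((d : F) * 1) * (l.map A.n).prod) * n0 ∈ A.U ⊓ A.V := ⟨h1, h2⟩
  rw [A.U_inf_V, Subgroup.mem_bot] at h3
  have h4 : A.x i ((d : F) * 1) = 1 := by
    have := congrArg (fun g => (l.map A.n).prod * (n0 * g * n0⁻¹) * (l.map A.n).prod⁻¹) h3
    simpa [mul_assoc] using this
  exact mul_ne_zero d.ne_zero one_ne_zero (A.x_not_U' i _ (h4 ▸ one_mem _))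

omit hn0 hL

variable (k G) in
/-- The left regular representation on functions. -/
noncomputable def lreg : Representation k G (G → k) where
  toFun g := LinearMap.funLeft k k (g⁻¹ * ·)
  map_one' := by ext; simp
  map_mul' a b := by ext; simp [mul_assoc]

theorem lreg_apply (g : G) (f : G → k) (z : G) : lreg G k g f z = f (g⁻¹ * z) := rfl

include hn0 hL in
theorem ef_eig (hn0' : ∀ u ∈ A.U, n0⁻¹ * u * n0 ∈ A.V) :
    Eig A (lreg G k) (ef A χ L n0) χ (fun i => if inK A χ i ∧ i ∉ L then -1 else 0) := by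
  have hwt : Wt A (lreg G k) (ef A χ L n0) χ := by
    refine ⟨fun u hu => funext fun z => ?_, fun a => funext fun z => ?_⟩
    · rw [lreg_apply, show u⁻¹ * z = u⁻¹ * z * 1 by rw [mul_one], ef_bi A χ L hL hn0 z (inv_mem hu) (one_mem _)]
    · rw [lreg_apply, ← Subgroup.coe_inv, ef_H A χ L hL hn0, map_inv, inv_inv]
      rfl
  refine ⟨hwt, fun i => funext fun z => ?_⟩
  have hTi : ∀ z, Ti A (lreg G k) i (ef A χ L n0) z = ∑ t : F, (ef A χ L n0) ((A.n i)⁻¹ * A.x i t * z) := fun z => by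
    rw [Ti, LinearMap.sum_apply, Finset.sum_apply]
    refine Fintype.sum_equiv (Equiv.neg F) _ _ fun t => ?_
    rw [lreg_apply, _root_.mul_inv_rev, Equiv.neg_apply, A.x_neg]
  obtain ⟨u, hu, g, hg, w, hw, rfl⟩ := A.bruhat z
  obtain ⟨χ', hT⟩ := Ti_wt A (lreg G k) hwt i
  have hleft : Ti A (lreg G k) i (ef A χ L n0) (u * g * w) = Ti A (lreg G k) i (ef A χ L n0) (g * w) := by
    have := congrFun (hT.fix u⁻¹ (inv_mem hu)) (g * w)
    rw [lreg_apply, inv_inv, ← mul_assoc] at this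
    exact this
  have hright : Ti A (lreg G k) i (ef A χ L n0) (g * w) = Ti A (lreg G k) i (ef A χ L n0) g := by
    rw [hTi, hTi]
    refine Finset.sum_congr rfl fun t _ => ?_
    rw [show (A.n i)⁻¹ * A.x i t * (g * w) = 1 * ((A.n i)⁻¹ * A.x i t * g) * w by group,
      ef_bi A χ L hL hn0 _ (one_mem _) hw]
  rw [hleft, hright, Pi.smul_apply, ef_bi A χ L hL hn0 g hu hw, smul_eq_mul, hTi]
  set a : k := if inK A χ i ∧ i ∉ L then -1 else 0 with hadef
  rcases A.dich g hg i with hd | hd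
  · have hz : a * (ef A χ L n0) g = 0 := by
      by_cases hiL : i ∈ L
      · simp [hadef, hiL]
      · rw [supp_dec A χ L hL hn0 hn0' hg hiL (fun t => (hd t).1), mul_zero]
    rw [hz]
    have hc : ∀ t, (ef A χ L n0) ((A.n i)⁻¹ * A.x i t * g) = (ef A χ L n0) ((A.n i)⁻¹ * g) := fun t => by
      rw [show (A.n i)⁻¹ * A.x i t * g = 1 * ((A.n i)⁻¹ * g) * (g⁻¹ * A.x i t * g) by group,
        ef_bi A χ L hL hn0 _ (one_mem _) (hd t).1]
    rw [Finset.sum_congr rfl fun t _ => hc t, Finset.sum_const, Finset.card_univ, ← Nat.cast_smul_eq_nsmul k,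
      card_zero A, zero_smul]
  · have hc : ∀ c : Fˣ, (ef A χ L n0) ((A.n i)⁻¹ * A.x i (c : F) * g) =
        (χ ⟨A.h i c, A.h_mem i _⟩ : k) * (ef A χ L n0) g := fun c => by
      have e : (A.n i)⁻¹ * A.x i (c : F) * g = A.x i (-((c⁻¹ : Fˣ) : F)) *
          ((A.h i c⁻¹) * g) * (g⁻¹ * A.y i ((c⁻¹ : Fˣ) : F) * g) := by
        have h1 : (A.n i)⁻¹ * A.x i (c : F) * A.n i = A.y i (-(c : F)) := n_inv_x A i _
        have h2 := A.y_eq i c⁻¹
        rw [inv_inv] at h2
        have h3 : A.n i * A.x i (-((c⁻¹ : Fˣ) : F)) * (A.n i)⁻¹ = A.y i ((c⁻¹ : Fˣ) : F) := by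
          rw [A.n_x, neg_neg, mul_inv_cancel_right]
        rw [show (A.n i)⁻¹ * A.x i (c : F) * g = (A.n i)⁻¹ * A.x i (c : F) * A.n i * (A.n i)⁻¹ * g by group, h1, h2,
          ← h3]
        group
      rw [e, ef_bi A χ L hL hn0 _ (A.x_mem i _) (hd _).2, ef_H A χ L hL hn0 _ ⟨A.h i c⁻¹, A.h_mem i _⟩]
      congr 2
      rw [← map_inv]
      exact congrArg χ (Subtype.ext (by rw [Subgroup.coe_inv]; show (A.h i c⁻¹)⁻¹ = A.h i c; rw [map_inv, inv_inv]))
    rw [sum_units, A.x_zero, mul_one, Finset.sum_congr rfl fun c _ => hc c, ← Finset.sum_mul, sum_chi]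
    by_cases hiL : i ∈ L
    · have hflip : (ef A χ L n0) ((A.n i)⁻¹ * g) = (ef A χ L n0) g := by
        have hinv : (A.n i)⁻¹ = A.h i (-1) * A.n i := by
          rw [inv_eq_iff_mul_eq_one, ← mul_assoc, A.n_h, mul_assoc, A.n_sq, ← map_mul]
          simp
        by_cases h : ∃ c, Val A χ L n0 g c
        · obtain ⟨c, hgc⟩ := h
          rw [ef_val A χ L hn0 hL hgc]
          obtain ⟨b, l, hl, u', hu', w', hw', hz, rfl⟩ := hgc
          have hgeq := A.bruhat_unique u' hu' _ (mul_mem (mul_mem (A.H_le b.2) (A.nw_mem l)) hn0) w' hw' g hg hz.symm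
          rw [ef_val A χ L hn0 hL (c := (χ b)⁻¹) ⟨⟨A.h i (-1), A.h_mem i _⟩ * ⟨A.n i * b * (A.n i)⁻¹,
            A.conj_H _ (A.n_mem i) b b.2⟩, i :: l, InL.cons hiL hl, 1, one_mem _, 1, one_mem _, ?_, ?_⟩]
          · rw [← hgeq, List.map_cons, List.prod_cons, Subgroup.coe_mul]
            dsimp only
            conv_lhs => rw [hinv]
            group
          · rw [map_mul, hL i hiL, one_mul, chi_conj A χ L hL hiL]
        · have h' : ¬∃ c, Val A χ L n0 ((A.n i)⁻¹ * g) c := by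
            rintro ⟨c, b, l, hl, u', hu', w', hw', hz, -⟩
            have hgeq := A.bruhat_unique u' hu' _ (mul_mem (mul_mem (A.H_le b.2) (A.nw_mem l)) hn0) w' hw' _
              (mul_mem (inv_mem (A.n_mem i)) hg) hz.symm
            refine h ⟨_, ⟨A.n i * b * (A.n i)⁻¹, A.conj_H _ (A.n_mem i) b b.2⟩, i :: l, InL.cons hiL hl,
              1, one_mem _, 1, one_mem _, ?_, rfl⟩
            rw [List.map_cons, List.prod_cons, ← mul_inv_cancel_left (A.n i) g, ← hgeq]
            group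
          rw [ef, ef, dif_neg h, dif_neg h']
      rw [hflip, if_pos (hL i hiL), hadef, if_neg (fun e => e.2 hiL)]
      ring
    · have hinc := dec_inc A hd
      rw [supp_dec A χ L hL hn0 hn0' (mul_mem (inv_mem (A.n_mem i)) hg) hiL (fun t => (hinc t).1), zero_add,
        hadef]
      by_cases hK : inK A χ i
      · rw [if_pos hK, if_pos ⟨hK, hiL⟩]
      · rw [if_neg hK, if_neg fun e => hK e.1]

include hL in
/-- The existence theorem. -/
theorem exists_irr :
    ∃ (W : Type max u v) (_ : AddCommGroup W) (_ : Module k W) (_ : FiniteDimensional k W)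
      (σ : Representation k G W) (v : W), v ≠ 0 ∧ Irr σ ∧
        Eig A σ v χ (fun i => if inK A χ i ∧ i ∉ L then -1 else 0) := by
  obtain ⟨n0, hn0, -, hn0'⟩ := A.w0
  set f := ef A χ L n0
  set a : ι → k := fun i => if inK A χ i ∧ i ∉ L then -1 else 0
  have heig : Eig A (lreg G k) f χ a := ef_eig A χ L hL hn0 hn0'
  have hf0 : f ≠ 0 := fun e => by
    have h := ef_val A χ L hn0 hL (z := n0) (c := (χ 1)⁻¹)
      ⟨1, [], fun j hj => absurd hj List.not_mem_nil, 1, one_mem _, 1, one_mem _, by simp, rfl⟩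
    rw [show ef A χ L n0 = 0 from e, Pi.zero_apply] at h
    exact Units.ne_zero _ h.symm
  set M := lowSpan A (lreg G k) f
  have hM : Stable (lreg G k) M := lowSpan_stable A (lreg G k) heig
  let τ : Representation k G M := subRep (lreg G k) M hM
  let v0 : M := ⟨f, self_mem_lowSpan A _ f⟩
  have hv0 : Eig A τ v0 χ a := by
    refine ⟨⟨fun u hu => Subtype.ext (heig.fix u hu), fun b => Subtype.ext (heig.wt b)⟩, fun i => Subtype.ext ?_⟩
    have : ((Ti A τ i v0 : M) : G → k) = Ti A (lreg G k) i f := by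
      simp only [Ti, LinearMap.sum_apply, Submodule.coe_sum]
      rfl
    rw [this, heig.eig]
    rfl
  have htop : lowSpan A τ v0 = ⊤ := by
    rw [eq_top_iff]
    rintro ⟨x, hx⟩ -
    have hle : M ≤ (lowSpan A τ v0).map M.subtype := by
      refine Submodule.span_le.mpr ?_
      rintro _ ⟨z, hz, rfl⟩
      exact ⟨τ z v0, mem_lowSpan A τ hz, rfl⟩
    obtain ⟨y, hy, e⟩ := hle hx
    rwa [show (⟨x, hx⟩ : M) = y from Subtype.ext e.symm]
  let S : Set (Submodule k M) := {Z | Stable τ Z ∧ v0 ∉ Z}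
  have hv00 : v0 ≠ 0 := fun e => hf0 (congrArg Subtype.val e)
  have hSne : S.Nonempty := ⟨⊥, fun g x hx => by
    rw [Submodule.mem_bot] at hx ⊢; rw [hx, map_zero], fun h => hv00 ((Submodule.mem_bot k).mp h)⟩
  obtain ⟨Z, ⟨hZ, hZv⟩, hmax⟩ := (wellFounded_gt (α := Submodule k M)).has_min S hSne
  refine ⟨M ⧸ Z, inferInstance, inferInstance, inferInstance, quotRep τ Z hZ, Z.mkQ v0, ?_, ⟨?_, ?_⟩,
    hv0.map A τ Z.mkQ fun g x => rfl⟩
  · rwa [Ne, Submodule.mkQ_apply, Submodule.Quotient.mk_eq_zero]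
  · exact ⟨⟨Z.mkQ v0, 0, by rwa [Ne, Submodule.mkQ_apply, Submodule.Quotient.mk_eq_zero]⟩⟩
  · intro W hW
    have hst : Stable τ (W.comap Z.mkQ) := fun g x hx => hW g _ hx
    by_cases hv : v0 ∈ W.comap Z.mkQ
    · right
      have hall : lowSpan A τ v0 ≤ W.comap Z.mkQ := by
        refine Submodule.span_le.mpr ?_
        rintro _ ⟨z, -, rfl⟩
        exact hst z v0 hv
      rw [eq_top_iff]
      intro y _
      obtain ⟨x, rfl⟩ := Z.mkQ_surjective y
      exact hall (htop ▸ Submodule.mem_top)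
    · left
      have hle : Z ≤ W.comap Z.mkQ := fun x hx => by
        show Z.mkQ x ∈ W
        rw [Submodule.mkQ_apply, (Submodule.Quotient.mk_eq_zero Z).mpr hx]
        exact zero_mem _
      have heq : W.comap Z.mkQ = Z :=
        (hle.lt_or_eq.resolve_left fun hlt => hmax _ ⟨hst, hv⟩ hlt).symm
      rw [eq_bot_iff]
      intro y hy
      obtain ⟨x, rfl⟩ := Z.mkQ_surjective y
      rw [Submodule.mem_bot, Submodule.mkQ_apply, Submodule.Quotient.mk_eq_zero, ← heq]
      exact hy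

end CfsgLib.Modular
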