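import Cfsg.Agent.Lib.KnownB.Modular.Weight

/-!
The operators of the Hecke algebra on weight vectors, and common eigenvectors of them.
-/

set_option autoImplicit false
set_option linter.unusedSectionVars false

namespace CfsgLib.Modular

open scoped Classical

universe w

variable {G : Type*} [Group G] [Finite G] {p : ℕ} [Fact p.Prime] {k : Type*} [Field k] [CharP k p]
  {F : Type*} [Field F] [Fintype F] [CharP F p] {ι : Type*} (A : Ax G p F ι)
  {V : Type w} [AddCommGroup V] [Module k V] (ρ : Representation k G V)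

/-- `U ∩ g V g⁻¹`. -/
def Ax.Ug (g : G) : Subgroup G := A.U ⊓ A.V.comap (MulAut.conj g⁻¹).toMonoidHom

theorem mem_Ug {g z : G} : z ∈ A.Ug g ↔ z ∈ A.U ∧ g⁻¹ * z * g ∈ A.V := by
  simp [Ax.Ug, Subgroup.mem_inf]

/-- `U ∩ g V g⁻¹` as a finite set. -/
noncomputable def UgF (g : G) : Finset G := (Set.toFinite (A.Ug g : Set G)).toFinset

theorem mem_UgF {g z : G} : z ∈ UgF A g ↔ z ∈ A.U ∧ g⁻¹ * z * g ∈ A.V := by
  rw [UgF, Set.Finite.mem_toFinset, SetLike.mem_coe, mem_Ug]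

/-- The operator of a monomial element. -/
noncomputable def Tg (g : G) : Module.End k V := ∑ z ∈ UgF A g, ρ (z * g)

/-- The operator of a fundamental reflection. -/
noncomputable def Ti (i : ι) : Module.End k V := ∑ t : F, ρ (A.x i t * A.n i)

include A in
theorem card_zero : (Fintype.card F : k) = 0 := by
  obtain ⟨n, -, hn⟩ := FiniteField.card F p
  rw [hn, Nat.cast_pow, CharP.cast_eq_zero, zero_pow n.ne_zero]

theorem sum_units {M : Type*} [AddCommMonoid M] (f : F → M) : ∑ s, f s = f 0 + ∑ u : Fˣ, f (u : F) := by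
  rw [← Finset.add_sum_erase Finset.univ f (Finset.mem_univ (0 : F))]
  congr 1
  refine (Finset.sum_bij (fun (u : Fˣ) (_ : u ∈ Finset.univ) => (u : F)) (fun u _ => by simp) (fun a _ b _ e => Units.ext e)
    (fun b hb => ?_) fun _ _ => rfl).symm
  exact ⟨Units.mk0 b (Finset.ne_of_mem_erase hb), Finset.mem_univ _, rfl⟩

theorem n_inv_x (i : ι) (t : F) : (A.n i)⁻¹ * A.x i t * A.n i = A.y i (-t) := by
  have h := A.n_y i (-t)
  rw [neg_neg] at h
  rw [mul_assoc, ← h, inv_mul_cancel_left]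

theorem n_inv_y (i : ι) (t : F) : (A.n i)⁻¹ * A.y i t * A.n i = A.x i (-t) := by
  have h := A.n_x i (-t)
  rw [neg_neg] at h
  rw [mul_assoc, ← h, inv_mul_cancel_left]

/-- Composition when the length goes up. -/
theorem Ti_mul_Tg {g : G} (hg : g ∈ A.N) {i : ι} (hinc : ∀ t, g⁻¹ * A.x i t * g ∈ A.U ∧ g⁻¹ * A.y i t * g ∈ A.V) :
    Ti A ρ i * Tg A ρ g = Tg A ρ (A.n i * g) := by
  rw [Ti, Tg, Tg, Finset.sum_mul_sum, ← Finset.sum_product']
  have hU' : ∀ z ∈ UgF A g, z ∈ A.U' i := fun z hz =>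
    A.inc g hg i (fun t => (hinc t).1) z ((mem_UgF A).mp hz).1 ((mem_UgF A).mp hz).2
  have hx : ∀ t, A.x i t ∈ A.Ug (A.n i * g) := fun t => by
    rw [mem_Ug]
    refine ⟨A.x_mem i t, ?_⟩
    rw [_root_.mul_inv_rev, show g⁻¹ * (A.n i)⁻¹ * A.x i t * (A.n i * g) = g⁻¹ * ((A.n i)⁻¹ * A.x i t * A.n i) * g by group,
      n_inv_x]
    exact (hinc _).2
  refine Finset.sum_bij (fun q _ => A.x i q.1 * (A.n i * q.2 * (A.n i)⁻¹)) ?_ ?_ ?_ ?_
  · rintro ⟨t, z⟩ h
    simp only [Finset.mem_product, Finset.mem_univ, true_and] at h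
    rw [mem_UgF, ← mem_Ug]
    refine mul_mem (hx t) ((mem_Ug A).mpr ⟨A.U'_le i (A.n_U' i z (hU' z h)), ?_⟩)
    have := ((mem_UgF A).mp h).2
    rwa [show (A.n i * g)⁻¹ * (A.n i * z * (A.n i)⁻¹) * (A.n i * g) = g⁻¹ * z * g by group]
  · rintro ⟨t, z⟩ h ⟨t', z'⟩ h' e
    simp only [Finset.mem_product, Finset.mem_univ, true_and] at h h'
    have e1 : A.x i (t - t') = A.n i * z' * (A.n i)⁻¹ * (A.n i * z * (A.n i)⁻¹)⁻¹ := by
      rw [eq_mul_inv_iff_mul_eq, sub_eq_neg_add, A.x_add, mul_assoc, e, A.x_neg, inv_mul_cancel_left]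
    have e2 : t - t' = 0 := A.x_not_U' i _ (by
      rw [e1]; exact mul_mem (A.n_U' i _ (hU' _ h')) (inv_mem (A.n_U' i _ (hU' _ h))))
    obtain rfl := sub_eq_zero.mp e2
    simp only [mul_left_cancel_iff, mul_right_cancel_iff] at e
    rw [e]
  · intro w hw
    obtain ⟨hwU, hwV⟩ := (mem_UgF A).mp hw
    obtain ⟨t, u', hu', rfl⟩ := A.U_split i w hwU
    refine ⟨(t, (A.n i)⁻¹ * u' * A.n i), ?_, by group⟩
    simp only [Finset.mem_product, Finset.mem_univ, true_and]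
    rw [mem_UgF]
    refine ⟨A.U'_le i (A.inv_n_U' i hu'), ?_⟩
    have h3 : u' ∈ A.Ug (A.n i * g) := by
      have := mul_mem (inv_mem (hx t)) ((mem_Ug A).mpr ⟨hwU, hwV⟩)
      rwa [inv_mul_cancel_left] at this
    have := ((mem_Ug A).mp h3).2
    rwa [show g⁻¹ * ((A.n i)⁻¹ * u' * A.n i) * g = (A.n i * g)⁻¹ * u' * (A.n i * g) by group]
  · rintro ⟨t, z⟩ -
    rw [← map_mul]
    congr 1
    group

/-- A decreasing step comes from an increasing one. -/
theorem dec_inc {g : G} {i : ι} (hdec : ∀ t, g⁻¹ * A.x i t * g ∈ A.V ∧ g⁻¹ * A.y i t * g ∈ A.U) :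
    ∀ t, ((A.n i)⁻¹ * g)⁻¹ * A.x i t * ((A.n i)⁻¹ * g) ∈ A.U ∧
      ((A.n i)⁻¹ * g)⁻¹ * A.y i t * ((A.n i)⁻¹ * g) ∈ A.V := by
  intro t
  have e1 : A.n i * A.x i t * (A.n i)⁻¹ = A.y i (-t) := by rw [A.n_x, mul_inv_cancel_right]
  have e2 : A.n i * A.y i t * (A.n i)⁻¹ = A.x i (-t) := by rw [A.n_y, mul_inv_cancel_right]
  constructor
  · rw [show ((A.n i)⁻¹ * g)⁻¹ * A.x i t * ((A.n i)⁻¹ * g) = g⁻¹ * (A.n i * A.x i t * (A.n i)⁻¹) * g by group, e1]
    exact (hdec _).2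
  · rw [show ((A.n i)⁻¹ * g)⁻¹ * A.y i t * ((A.n i)⁻¹ * g) = g⁻¹ * (A.n i * A.y i t * (A.n i)⁻¹) * g by group, e2]
    exact (hdec _).1

theorem card_Ug_lt {g : G} (hg : g ∈ A.N) {i : ι}
    (hinc : ∀ t, g⁻¹ * A.x i t * g ∈ A.U ∧ g⁻¹ * A.y i t * g ∈ A.V) :
    (UgF A g).card < (UgF A (A.n i * g)).card := by
  have hU' : ∀ z ∈ UgF A g, z ∈ A.U' i := fun z hz =>
    A.inc g hg i (fun t => (hinc t).1) z ((mem_UgF A).mp hz).1 ((mem_UgF A).mp hz).2
  have hsub : (UgF A g).image (fun z => A.n i * z * (A.n i)⁻¹) ⊆ (UgF A (A.n i * g)).erase (A.x i 1) := by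
    intro w hw
    obtain ⟨z, hz, rfl⟩ := Finset.mem_image.mp hw
    refine Finset.mem_erase.mpr ⟨fun e => one_ne_zero (A.x_not_U' i 1 (e ▸ A.n_U' i z (hU' z hz))), ?_⟩
    rw [mem_UgF]
    refine ⟨A.U'_le i (A.n_U' i z (hU' z hz)), ?_⟩
    have := ((mem_UgF A).mp hz).2
    rwa [show (A.n i * g)⁻¹ * (A.n i * z * (A.n i)⁻¹) * (A.n i * g) = g⁻¹ * z * g by group]
  have hx : A.x i 1 ∈ UgF A (A.n i * g) := by
    rw [mem_UgF]
    refine ⟨A.x_mem i 1, ?_⟩
    rw [show (A.n i * g)⁻¹ * A.x i 1 * (A.n i * g) = g⁻¹ * ((A.n i)⁻¹ * A.x i 1 * A.n i) * g by group, n_inv_x]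
    exact (hinc _).2
  have h := Finset.card_le_card hsub
  rw [Finset.card_image_of_injective _ (fun a b e => mul_left_cancel (mul_right_cancel e)),
    Finset.card_erase_of_mem hx] at h
  have := Finset.card_pos.mpr ⟨_, hx⟩
  omega

/-- A fundamental operator carries weight vectors to weight vectors. -/
theorem Ti_wt {v : V} {χ : A.H →* kˣ} (hv : Wt A ρ v χ) (i : ι) : ∃ χ', Wt A ρ (Ti A ρ i v) χ' := by
  have happ : ∀ g : G, ρ g (Ti A ρ i v) = ∑ t : F, ρ (g * (A.x i t * A.n i)) v := fun g => by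
    simp [Ti, map_sum, map_mul]
  have hT : Ti A ρ i v = ∑ t : F, ρ (A.x i t * A.n i) v := by simp [Ti]
  let c : A.H →* A.H :=
    { toFun := fun a => ⟨(A.n i)⁻¹ * a * A.n i, A.conj_H' (A.n_mem i) a.2⟩
      map_one' := Subtype.ext (by simp)
      map_mul' := fun a b => Subtype.ext (by simp [mul_assoc]) }
  refine ⟨χ.comp c, ⟨fun u hu => ?_, fun a => ?_⟩⟩
  · obtain ⟨t0, u', hu', rfl⟩ := A.U_split i u hu
    rw [map_mul, Module.End.mul_apply]
    have h1 : ρ u' (Ti A ρ i v) = Ti A ρ i v := by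
      rw [happ, hT]
      refine Finset.sum_congr rfl fun t _ => ?_
      have h2 : (A.x i t)⁻¹ * u' * A.x i t ∈ A.U' i := by
        have := A.x_U' i (-t) u' hu'
        rwa [A.x_neg, inv_inv] at this
      rw [show u' * (A.x i t * A.n i) = A.x i t * A.n i * ((A.n i)⁻¹ * ((A.x i t)⁻¹ * u' * A.x i t) * A.n i) by group]
      exact hv.twist_fix A (A.U'_le i (A.inv_n_U' i h2))
    rw [h1, happ, hT]
    exact Fintype.sum_equiv (Equiv.addLeft t0) _ _ fun t => by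
      rw [Equiv.coe_addLeft, A.x_add, mul_assoc]
  · rw [happ, hT, Finset.smul_sum]
    obtain ⟨d, hd⟩ := A.H_x a a.2 i
    refine Fintype.sum_equiv (Equiv.mulLeft₀ (d : F) d.ne_zero) _ _ fun t => ?_
    rw [← mul_assoc, hd, mul_assoc, show (a : G) * A.n i = A.n i * ((A.n i)⁻¹ * a * A.n i) by group, ← mul_assoc,
      hv.twist_H A _ (A.conj_H' (A.n_mem i) a.2)]
    rfl

/-- `K(χ)`. -/
def inK (χ : A.H →* kˣ) (i : ι) : Prop := ∀ c : Fˣ, χ ⟨A.h i c, A.h_mem i c⟩ = 1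

theorem sum_chi (χ : A.H →* kˣ) (i : ι) :
    ∑ c : Fˣ, (χ ⟨A.h i c, A.h_mem i c⟩ : k) = if inK A χ i then -1 else 0 := by
  let f : Fˣ →* k :=
    { toFun := fun c => (χ ⟨A.h i c, A.h_mem i c⟩ : k)
      map_one' := by
        rw [show (⟨A.h i 1, A.h_mem i 1⟩ : A.H) = 1 from Subtype.ext (map_one _), map_one, Units.val_one]
      map_mul' := fun a b => by
        rw [← Units.val_mul, ← map_mul]
        exact congrArg (fun z => (χ z : k)) (Subtype.ext (map_mul (A.h i) a b)) }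
  show ∑ c : Fˣ, f c = _
  rw [sum_hom_units f]
  have hiff : f = 1 ↔ inK A χ i := by
    constructor
    · exact fun e c => Units.ext (DFunLike.congr_fun e c)
    · exact fun e => MonoidHom.ext fun c => congrArg Units.val (e c)
  by_cases h : inK A χ i
  · rw [if_pos (hiff.mpr h), if_pos h, Fintype.card_units, Nat.cast_sub Fintype.card_pos, card_zero A,
      Nat.cast_one, zero_sub]
  · rw [if_neg (fun e => h (hiff.mp e)), if_neg h, Nat.cast_zero]

/-- The square of a fundamental operator on a weight vector. -/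
theorem Ti_sq {v : V} {χ : A.H →* kˣ} (hv : Wt A ρ v χ) (i : ι) :
    Ti A ρ i (Ti A ρ i v) = (if inK A χ i then (-1 : k) else 0) • Ti A ρ i v := by
  have hT : ∀ w : V, Ti A ρ i w = ∑ t : F, ρ (A.x i t * A.n i) w := fun w => by simp [Ti]
  rw [hT (Ti A ρ i v)]
  conv_lhs => enter [2, t]; rw [hT v, map_sum]; enter [2, s]; rw [← Module.End.mul_apply, ← map_mul]
  conv_lhs => enter [2, t]; rw [sum_units]
  rw [Finset.sum_add_distrib]
  have h0 : ∀ t, ρ (A.x i t * A.n i * (A.x i 0 * A.n i)) v = (χ ⟨A.h i (-1), A.h_mem i _⟩ : k) • v := fun t => by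
    rw [A.x_zero, one_mul, mul_assoc, A.n_sq, hv.twist_H A _ (A.h_mem i _), hv.fix _ (A.x_mem i t)]
  rw [Finset.sum_congr rfl fun t _ => h0 t, Finset.sum_const, Finset.card_univ, ← Nat.cast_smul_eq_nsmul k,
    card_zero A, zero_smul, zero_add, Finset.sum_comm]
  set σ : k := (χ ⟨A.h i (-1), A.h_mem i _⟩ : k)
  have h1 : ∀ s : Fˣ, ∀ t, ρ (A.x i t * A.n i * (A.x i (s : F) * A.n i)) v =
      (σ * (χ ⟨A.h i s, A.h_mem i _⟩ : k)) • ρ (A.x i (t + -((s⁻¹ : Fˣ) : F)) * A.n i) v := by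
    intro s t
    have e1 : A.n i * A.x i (s : F) =
        A.x i (-((s⁻¹ : Fˣ) : F)) * (A.h i s⁻¹ * A.n i) * A.x i (-((s⁻¹ : Fˣ) : F)) * A.n i := by
      have := A.y_eq i s⁻¹
      rw [inv_inv] at this
      rw [A.n_x, this]
    rw [show A.x i t * A.n i * (A.x i (s : F) * A.n i) = A.x i t * (A.n i * A.x i (s : F)) * A.n i by group, e1]
    have e2 : A.h i s⁻¹ * A.n i = A.n i * A.h i s := (A.n_h i s).symm
    rw [show A.x i t * (A.x i (-((s⁻¹ : Fˣ) : F)) * (A.h i s⁻¹ * A.n i) * A.x i (-((s⁻¹ : Fˣ) : F)) * A.n i) * A.n i =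
        A.x i t * A.x i (-((s⁻¹ : Fˣ) : F)) * (A.h i s⁻¹ * A.n i) * A.x i (-((s⁻¹ : Fˣ) : F)) * (A.n i * A.n i) by group,
      A.n_sq, hv.twist_H A _ (A.h_mem i _), hv.twist_fix A (A.x_mem i _), e2, ← A.x_add, ← mul_assoc,
      hv.twist_H A _ (A.h_mem i _), smul_smul]
  rw [Finset.sum_congr rfl fun s _ => Finset.sum_congr rfl fun t _ => h1 s t]
  have h2 : ∀ s : Fˣ, ∑ t : F, (σ * (χ ⟨A.h i s, A.h_mem i _⟩ : k)) • ρ (A.x i (t + -((s⁻¹ : Fˣ) : F)) * A.n i) v =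
      (σ * (χ ⟨A.h i s, A.h_mem i _⟩ : k)) • Ti A ρ i v := fun s => by
    rw [← Finset.smul_sum, hT]
    congr 1
    exact Fintype.sum_equiv (Equiv.addRight (-((s⁻¹ : Fˣ) : F))) _ _ fun t => by rw [Equiv.coe_addRight]
  rw [Finset.sum_congr rfl fun s _ => h2 s, ← Finset.sum_smul, ← Finset.mul_sum, sum_chi]
  by_cases h : inK A χ i
  · rw [if_pos h, show σ = 1 from congrArg Units.val (h (-1)), one_mul]
  · rw [if_neg h, mul_zero]

theorem Tg_H {g : G} (hg : g ∈ A.H) (v : V) : Tg A ρ g v = ρ g v := by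
  have e : UgF A g = {1} := by
    ext z
    rw [mem_UgF, Finset.mem_singleton]
    constructor
    · rintro ⟨h1, h2⟩
      have h3 := A.H_V g hg _ h2
      rw [show g * (g⁻¹ * z * g) * g⁻¹ = z by group] at h3
      have : z ∈ A.U ⊓ A.V := ⟨h1, h3⟩
      rwa [A.U_inf_V, Subgroup.mem_bot] at this
    · rintro rfl
      exact ⟨one_mem _, by simp⟩
  simp [Tg, e]

/-- All the operators carry weight vectors to weight vectors. -/
theorem Tg_wt {v : V} {χ : A.H →* kˣ} (hv : Wt A ρ v χ) :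
    ∀ {g : G}, g ∈ A.N → ∃ χ', Wt A ρ (Tg A ρ g v) χ' := by
  suffices ∀ (d : ℕ) (g : G), g ∈ A.N → (UgF A g).card = d → ∃ χ', Wt A ρ (Tg A ρ g v) χ' from
    fun {g} hg => this _ g hg rfl
  intro d
  induction d using Nat.strong_induction_on with
  | _ d IH =>
  intro g hg hd
  by_cases hall : ∀ i, ∀ t, g⁻¹ * A.x i t * g ∈ A.U
  · have hH := A.top g hg hall
    refine ⟨χ, ⟨fun u hu => ?_, fun a => ?_⟩⟩
    · rw [Tg_H A ρ hH, hv.wt ⟨g, hH⟩, map_smul, hv.fix u hu]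
    · rw [Tg_H A ρ hH, hv.wt ⟨g, hH⟩, map_smul, hv.wt a, smul_comm]
  push Not at hall
  obtain ⟨i, t, hit⟩ := hall
  rcases A.dich g hg i with h | h
  · exact absurd (h t).1 hit
  have hg' : (A.n i)⁻¹ * g ∈ A.N := mul_mem (inv_mem (A.n_mem i)) hg
  have hinc := dec_inc A h
  have hlt := card_Ug_lt A hg' hinc
  rw [mul_inv_cancel_left] at hlt
  obtain ⟨χ', hχ'⟩ := IH _ (hd ▸ hlt) _ hg' rfl
  have he := congrArg (fun f : Module.End k V => f v) (Ti_mul_Tg A ρ hg' hinc)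
  simp only [mul_inv_cancel_left, Module.End.mul_apply] at he
  rw [← he]
  exact Ti_wt A ρ hχ' i

/-- A common eigenvector of `U`, `H` and the fundamental operators. -/
structure Eig (v : V) (χ : A.H →* kˣ) (a : ι → k) : Prop extends Wt A ρ v χ where
  eig : ∀ i, Ti A ρ i v = a i • v

/-- Every nonzero representation has a common eigenvector. -/
theorem exists_eig [IsAlgClosed k] [FiniteDimensional k V] [Nontrivial V] :
    ∃ (v : V) (χ : A.H →* kˣ) (a : ι → k), v ≠ 0 ∧ Eig A ρ v χ a := by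
  obtain ⟨v, χ, hv0, hv⟩ := exists_wt A ρ
  let S : Finset G := (Set.toFinite {g : G | g ∈ A.N ∧ Tg A ρ g v ≠ 0}).toFinset
  have hS : S.Nonempty := ⟨1, by
    rw [Set.Finite.mem_toFinset]
    refine ⟨one_mem _, ?_⟩
    rw [Tg_H A ρ (one_mem _), map_one]
    exact hv0⟩
  obtain ⟨g, hgS, hmax⟩ := S.exists_max_image (fun g => (UgF A g).card) hS
  rw [Set.Finite.mem_toFinset] at hgS
  obtain ⟨hg, hg0⟩ := hgS
  obtain ⟨χ', hw⟩ := Tg_wt A ρ hv hg
  have : ∀ i, ∃ a : k, Ti A ρ i (Tg A ρ g v) = a • Tg A ρ g v := by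
    intro i
    rcases A.dich g hg i with h | h
    · refine ⟨0, ?_⟩
      rw [zero_smul, ← Module.End.mul_apply, Ti_mul_Tg A ρ hg h]
      by_contra hne
      have := hmax (A.n i * g) (by rw [Set.Finite.mem_toFinset]; exact ⟨mul_mem (A.n_mem i) hg, hne⟩)
      exact absurd (card_Ug_lt A hg h) (not_lt.mpr this)
    · have hg' : (A.n i)⁻¹ * g ∈ A.N := mul_mem (inv_mem (A.n_mem i)) hg
      have hinc := dec_inc A h
      obtain ⟨χ'', hu⟩ := Tg_wt A ρ hv hg'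
      have he := congrArg (fun f : Module.End k V => f v) (Ti_mul_Tg A ρ hg' hinc)
      simp only [mul_inv_cancel_left, Module.End.mul_apply] at he
      exact ⟨_, by rw [← he]; exact Ti_sq A ρ hu i⟩
  choose a ha using this
  exact ⟨_, χ', a, hg0, ⟨hw, ha⟩⟩

/-- The eigenvalues are `0` or `-1`, the latter only on `K(χ)`. -/
theorem eig_values {v : V} {χ : A.H →* kˣ} {a : ι → k} (hv : Eig A ρ v χ a) (hv0 : v ≠ 0) (i : ι) :
    a i = 0 ∨ (a i = -1 ∧ inK A χ i) := by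
  have h := Ti_sq A ρ hv.toWt i
  rw [hv.eig, map_smul, hv.eig, smul_smul, smul_smul] at h
  have h2 := smul_left_injective k hv0 h
  rcases eq_or_ne (a i) 0 with e | e
  · exact Or.inl e
  have h3 := mul_right_cancel₀ e h2
  by_cases hK : inK A χ i
  · rw [if_pos hK] at h3; exact Or.inr ⟨h3, hK⟩
  · rw [if_neg hK] at h3; exact absurd h3 e

end CfsgLib.Modular
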