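import Cfsg.Agent.Lib.KnownB.Modular.Hecke

/-!
An eigenvector generates its representation under `V` alone, so an irreducible representation is
determined by the eigenvalues of its unique line of eigenvectors.
-/

set_option autoImplicit false
set_option linter.unusedSectionVars false

namespace CfsgLib.Modular

open CfsgLib.SimpleTrace
open scoped Classical

universe w w'

variable {G : Type*} [Group G] [Finite G] {p : ℕ} [Fact p.Prime] {k : Type*} [Field k] [CharP k p]
  {F : Type*} [Field F] [Fintype F] [CharP F p] {ι : Type*} (A : Ax G p F ι)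
  {V : Type w} [AddCommGroup V] [Module k V] (ρ : Representation k G V)

/-- The span of the translates of a vector under `V`. -/
def lowSpan (v : V) : Submodule k V := Submodule.span k {x | ∃ z ∈ A.V, ρ z v = x}

theorem mem_lowSpan {v : V} {z : G} (hz : z ∈ A.V) : ρ z v ∈ lowSpan A ρ v :=
  Submodule.subset_span ⟨z, hz, rfl⟩

theorem self_mem_lowSpan (v : V) : v ∈ lowSpan A ρ v := by
  have h := mem_lowSpan A ρ (v := v) (one_mem A.V)
  rwa [map_one] at h

theorem lowSpan_V {v : V} {z : G} (hz : z ∈ A.V) {x : V} (hx : x ∈ lowSpan A ρ v) : ρ z x ∈ lowSpan A ρ v := by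
  have hle : lowSpan A ρ v ≤ (lowSpan A ρ v).comap (ρ z) := by
    refine Submodule.span_le.mpr ?_
    rintro _ ⟨z', hz', rfl⟩
    show ρ z (ρ z' v) ∈ lowSpan A ρ v
    rw [← Module.End.mul_apply, ← map_mul]
    exact mem_lowSpan A ρ (mul_mem hz hz')
  exact hle hx

theorem lowSpan_rankOne {v : V} {χ : A.H →* kˣ} {a : ι → k} (hv : Eig A ρ v χ a) (i : ι) (b : F) :
    ρ (A.x i b * A.n i) v ∈ lowSpan A ρ v := by
  have hne : ∀ u : Fˣ, ρ (A.x i (u : F) * A.n i) v ∈ lowSpan A ρ v := by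
    intro u
    have h : ρ (A.y i ((u⁻¹ : Fˣ) : F)) v =
        (χ ⟨A.h i (-u)⁻¹, A.h_mem i _⟩ : k) • ρ (A.x i (u : F) * A.n i) v := by
      rw [A.y_eq', inv_inv, hv.twist_fix A (A.x_mem i _), ← inv_inv (-u), ← A.n_h, ← mul_assoc,
        hv.twist_H A _ (A.h_mem i _), inv_inv]
    have hm := mem_lowSpan A ρ (v := v) (A.y_mem i ((u⁻¹ : Fˣ) : F))
    rw [h] at hm
    exact (Submodule.smul_mem_iff _ (Units.ne_zero _)).mp hm
  rcases eq_or_ne b 0 with rfl | hb
  · have h : Ti A ρ i v = ρ (A.x i 0 * A.n i) v + ∑ u : Fˣ, ρ (A.x i (u : F) * A.n i) v := by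
      simp only [Ti, LinearMap.sum_apply]
      exact sum_units _
    rw [hv.eig, eq_comm, ← eq_sub_iff_add_eq] at h
    rw [h]
    exact sub_mem (Submodule.smul_mem _ _ (self_mem_lowSpan A ρ v)) (sum_mem fun u _ => hne u)
  · exact hne (Units.mk0 b hb)

theorem lowSpan_x {v : V} {χ : A.H →* kˣ} {a : ι → k} (hv : Eig A ρ v χ a) (i : ι) (t : F) {x : V}
    (hx : x ∈ lowSpan A ρ v) : ρ (A.x i t) x ∈ lowSpan A ρ v := by
  have hle : lowSpan A ρ v ≤ (lowSpan A ρ v).comap (ρ (A.x i t)) := by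
    refine Submodule.span_le.mpr ?_
    rintro _ ⟨z, hz, rfl⟩
    show ρ (A.x i t) (ρ z v) ∈ lowSpan A ρ v
    obtain ⟨z', hz', s, rfl⟩ := A.V_split i z hz
    rw [← Module.End.mul_apply, ← map_mul,
      show A.x i t * (z' * A.y i s) = A.x i t * z' * (A.x i t)⁻¹ * (A.x i t * A.y i s) by group, map_mul,
      Module.End.mul_apply]
    refine lowSpan_V A ρ (A.V'_le i (A.x_V' i t z' hz')) ?_
    rcases eq_or_ne s 0 with rfl | hs
    · rw [A.y_zero, mul_one, hv.fix _ (A.x_mem i t)]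
      exact self_mem_lowSpan A ρ v
    · have h := A.y_eq' i (Units.mk0 s hs)
      rw [Units.val_mk0] at h
      rw [h, ← mul_assoc, hv.twist_fix A (A.x_mem i _), ← inv_inv (-(Units.mk0 s hs)⁻¹), ← A.n_h,
        show A.x i t * (A.x i (((Units.mk0 s hs)⁻¹ : Fˣ) : F) * (A.n i * A.h i (-(Units.mk0 s hs)⁻¹)⁻¹)) =
          A.x i t * A.x i (((Units.mk0 s hs)⁻¹ : Fˣ) : F) * A.n i * A.h i (-(Units.mk0 s hs)⁻¹)⁻¹ by group,
        ← A.x_add, hv.twist_H A _ (A.h_mem i _)]
      exact Submodule.smul_mem _ _ (lowSpan_rankOne A ρ hv i _)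
  exact hle hx

/-- The translates of an eigenvector under `V` span a stable subspace. -/
theorem lowSpan_stable {v : V} {χ : A.H →* kˣ} {a : ι → k} (hv : Eig A ρ v χ a) :
    Stable ρ (lowSpan A ρ v) := by
  intro g
  have hg : g ∈ Subgroup.closure
      (Set.range (fun q : ι × F => A.x q.1 q.2) ∪ Set.range fun q : ι × F => A.y q.1 q.2) := by
    rw [A.gen]; exact Subgroup.mem_top g
  suffices (∀ x ∈ lowSpan A ρ v, ρ g x ∈ lowSpan A ρ v) ∧ (∀ x ∈ lowSpan A ρ v, ρ g⁻¹ x ∈ lowSpan A ρ v) from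
    this.1
  induction hg using Subgroup.closure_induction with
  | mem z hz =>
    rcases hz with ⟨⟨i, t⟩, rfl⟩ | ⟨⟨i, t⟩, rfl⟩
    · exact ⟨fun x hx => lowSpan_x A ρ hv i t hx, fun x hx => by rw [← A.x_neg]; exact lowSpan_x A ρ hv i _ hx⟩
    · exact ⟨fun x hx => lowSpan_V A ρ (A.y_mem i t) hx, fun x hx => lowSpan_V A ρ (inv_mem (A.y_mem i t)) hx⟩
  | one => simp
  | mul a b _ _ ha hb =>
    constructor
    · intro x hx; rw [map_mul, Module.End.mul_apply]; exact ha.1 _ (hb.1 x hx)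
    · intro x hx; rw [_root_.mul_inv_rev, map_mul, Module.End.mul_apply]; exact hb.2 _ (ha.2 x hx)
  | inv a _ ha => exact ⟨ha.2, fun x hx => by rw [inv_inv]; exact ha.1 x hx⟩

/-- A `V`-invariant functional that is nonzero at a vector generating under `V`. -/
theorem exists_lowFunctional [FiniteDimensional k V] {v : V} (hv0 : v ≠ 0) (htop : lowSpan A ρ v = ⊤) :
    ∃ φ : V →ₗ[k] k, φ v = 1 ∧ ∀ z ∈ A.V, ∀ x, φ (ρ z x) = φ x := by
  haveI : Nontrivial V := ⟨⟨v, 0, hv0⟩⟩
  haveI : Nontrivial (Module.Dual k V) := Module.nontrivial_of_finrank_pos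
    (by rw [Subspace.dual_finrank_eq]; exact Module.finrank_pos)
  obtain ⟨φ, hφ0, hφ⟩ := exists_fixed (p := p) ρ.dual A.pV
  have hinv : ∀ z ∈ A.V, ∀ x, φ (ρ z x) = φ x := fun z hz x => by
    have h := DFunLike.congr_fun (hφ z⁻¹ (inv_mem hz)) x
    rwa [Representation.dual_apply, Module.Dual.transpose_apply, LinearMap.comp_apply, inv_inv] at h
  have hne : φ v ≠ 0 := by
    intro e
    refine hφ0 (LinearMap.ext fun x => ?_)
    have hx : x ∈ lowSpan A ρ v := htop ▸ Submodule.mem_top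
    refine (Submodule.span_le.mpr ?_ : lowSpan A ρ v ≤ LinearMap.ker φ) hx
    rintro _ ⟨z, hz, rfl⟩
    show φ (ρ z v) = 0
    rw [hinv z hz, e]
  refine ⟨(φ v)⁻¹ • φ, ?_, fun z hz x => ?_⟩
  · rw [LinearMap.smul_apply, smul_eq_mul, inv_mul_cancel₀ hne]
  · rw [LinearMap.smul_apply, LinearMap.smul_apply, hinv z hz]

theorem lowSpan_eq_top {v : V} {χ : A.H →* kˣ} {a : ι → k} (hv : Eig A ρ v χ a) (hv0 : v ≠ 0) (hirr : Irr ρ) :
    lowSpan A ρ v = ⊤ :=
  (hirr.2 _ (lowSpan_stable A ρ hv)).resolve_left fun e => hv0 (by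
    have h := self_mem_lowSpan A ρ v
    rwa [e, Submodule.mem_bot] at h)

/-- The vectors fixed by `U` in an irreducible representation form at most a line. -/
theorem fixed_line [IsAlgClosed k] [FiniteDimensional k V] (hirr : Irr ρ) {x x' : V} (hx0 : x ≠ 0)
    (hx : ∀ u ∈ A.U, ρ u x = x) (hx' : ∀ u ∈ A.U, ρ u x' = x') : ∃ c : k, x' = c • x := by
  haveI := hirr.1
  haveI : Nontrivial (Module.Dual k V) := Module.nontrivial_of_finrank_pos
    (by rw [Subspace.dual_finrank_eq]; exact Module.finrank_pos)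
  obtain ⟨φ, χ, a, hφ0, hφ⟩ := exists_eig A ρ.dual
  obtain ⟨n0, -, hn0, -⟩ := A.w0
  set L := lowSpan A ρ.dual φ
  have hLst : Stable ρ.dual L := lowSpan_stable A ρ.dual hφ
  let ψ : Module.Dual k V := ρ.dual n0 φ
  have key : ∀ y, (∀ u ∈ A.U, ρ u y = y) → ψ y = 0 → y = 0 := by
    intro y hy hψ
    let K : Submodule k V := ⨅ θ : L, LinearMap.ker (θ : Module.Dual k V)
    have hK : ∀ z, z ∈ K ↔ ∀ θ ∈ L, (θ : Module.Dual k V) z = 0 := fun z => by
      simp [K, Submodule.mem_iInf, LinearMap.mem_ker]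
    have hKst : Stable ρ K := fun g z hz => (hK _).mpr fun θ hθ => by
      have h := (hK z).mp hz _ (hLst g⁻¹ θ hθ)
      rwa [Representation.dual_apply, Module.Dual.transpose_apply, LinearMap.comp_apply, inv_inv] at h
    have hKtop : K ≠ ⊤ := fun e => hφ0 (LinearMap.ext fun z =>
      (hK z).mp (e ▸ Submodule.mem_top) φ (self_mem_lowSpan A ρ.dual φ))
    have hyK : y ∈ K := (hK y).mpr fun θ hθ => by
      have hθ' := hLst n0⁻¹ θ hθ
      have e : θ = ρ.dual n0 (ρ.dual n0⁻¹ θ) := by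
        rw [← Module.End.mul_apply, ← map_mul, mul_inv_cancel, map_one, Module.End.one_apply]
      rw [e]
      refine (Submodule.span_le.mpr ?_ : L ≤ LinearMap.ker ((Module.Dual.eval k V y).comp (ρ.dual n0))) hθ'
      rintro _ ⟨z, hz, rfl⟩
      show (ρ.dual n0 (ρ.dual z φ)) y = 0
      rw [← Module.End.mul_apply, ← map_mul, show n0 * z = n0 * z * n0⁻¹ * n0 by group, map_mul,
        Module.End.mul_apply, Representation.dual_apply, Module.Dual.transpose_apply, LinearMap.comp_apply,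
        hy _ (inv_mem (hn0 z hz))]
      exact hψ
    have := (hirr.2 K hKst).resolve_right hKtop
    rwa [this, Submodule.mem_bot] at hyK
  have hψx : ψ x ≠ 0 := fun e => hx0 (key x hx e)
  refine ⟨ψ x' / ψ x, sub_eq_zero.mp (key _ (fun u hu => ?_) ?_)⟩
  · rw [map_sub, map_smul, hx u hu, hx' u hu]
  · rw [map_sub, map_smul, smul_eq_mul, div_mul_cancel₀ _ hψx, sub_self]

/-- The parameters of an irreducible representation are unique. -/
theorem param_unique [IsAlgClosed k] [FiniteDimensional k V] (hirr : Irr ρ) {v v' : V} (hv0 : v ≠ 0) (hv0' : v' ≠ 0)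
    {χ χ' : A.H →* kˣ} {a a' : ι → k} (hv : Eig A ρ v χ a) (hv' : Eig A ρ v' χ' a') : χ = χ' ∧ a = a' := by
  obtain ⟨c, rfl⟩ := fixed_line A ρ hirr hv0 hv.fix hv'.fix
  constructor
  · refine MonoidHom.ext fun h => Units.ext (smul_left_injective k hv0' ?_)
    show (χ h : k) • (c • v) = (χ' h : k) • (c • v)
    rw [← hv'.wt h, map_smul, hv.wt h, smul_comm]
  · refine funext fun i => smul_left_injective k hv0' ?_
    show a i • (c • v) = a' i • (c • v)
    rw [← hv'.eig i, map_smul, hv.eig i, smul_comm]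

/-- An intertwiner maps eigenvectors to eigenvectors. -/
theorem Eig.map {W : Type w'} [AddCommGroup W] [Module k W] {σ : Representation k G W} {v : V}
    {χ : A.H →* kˣ} {a : ι → k} (hv : Eig A ρ v χ a) (f : V →ₗ[k] W) (hf : ∀ g x, f (ρ g x) = σ g (f x)) :
    Eig A σ (f v) χ a where
  fix u hu := by rw [← hf, hv.fix u hu]
  wt h := by rw [← hf, hv.wt h, map_smul]
  eig i := by
    rw [← map_smul, ← hv.eig i]
    simp [Ti, LinearMap.sum_apply, hf]

/-- Two irreducible representations with the same parameters have the same traces. -/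
theorem traceFun_eq [FiniteDimensional k V] {W : Type w} [AddCommGroup W] [Module k W] [FiniteDimensional k W]
    (σ : Representation k G W) (hρ : Irr ρ) (hσ : Irr σ) {v : V} {w : W} (hv0 : v ≠ 0) (hw0 : w ≠ 0)
    {χ : A.H →* kˣ} {a : ι → k} (hv : Eig A ρ v χ a) (hw : Eig A σ w χ a) : traceFun ρ = traceFun σ := by
  let π : Representation k G (V × W) := ρ.prod σ
  have hπ : ∀ g (x : V × W), π g x = (ρ g x.1, σ g x.2) := fun g x => rfl
  have hvw : Eig A π (v, w) χ a := by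
    refine ⟨⟨fun u hu => ?_, fun h => ?_⟩, fun i => ?_⟩
    · rw [hπ, hv.fix u hu, hw.fix u hu]
    · rw [hπ, hv.wt h, hw.wt h]; rfl
    · have e : Ti A π i (v, w) = (Ti A ρ i v, Ti A σ i w) := by
        simp only [Ti, LinearMap.sum_apply, hπ]
        exact Prod.ext (by simp [Prod.fst_sum]) (by simp [Prod.snd_sum])
      rw [e, hv.eig, hw.eig]; rfl
  set M := lowSpan A π (v, w)
  have hMst : Stable π M := lowSpan_stable A π hvw
  obtain ⟨φ₁, h1, h1'⟩ := exists_lowFunctional A ρ hv0 (lowSpan_eq_top A ρ hv hv0 hρ)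
  obtain ⟨φ₂, h2, h2'⟩ := exists_lowFunctional A σ hw0 (lowSpan_eq_top A σ hw hw0 hσ)
  have hker : ∀ x ∈ M, φ₁ x.1 = φ₂ x.2 := by
    intro x hx
    refine (Submodule.span_le.mpr ?_ : M ≤ LinearMap.eqLocus (φ₁ ∘ₗ LinearMap.fst k V W) (φ₂ ∘ₗ LinearMap.snd k V W)) hx
    rintro _ ⟨z, hz, rfl⟩
    show φ₁ (ρ z v) = φ₂ (σ z w)
    rw [h1' z hz, h2' z hz, h1, h2]
  have hvwM : (v, w) ∈ M := self_mem_lowSpan A π (v, w)
  -- `M` is a graph
  have hfst : ∀ x ∈ M, x.2 = 0 → x.1 = 0 := by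
    let K : Submodule k V := M.comap (LinearMap.inl k V W)
    have hK : Stable ρ K := fun g x hx => by
      have h := hMst g _ (show ((x, 0) : V × W) ∈ M from hx)
      rw [hπ, map_zero] at h
      exact h
    rcases hρ.2 K hK with h | h
    · intro x hx e
      have : x.1 ∈ K := by show ((x.1, 0) : V × W) ∈ M; rwa [← e]
      rwa [h, Submodule.mem_bot] at this
    · have hv' : ((v, 0) : V × W) ∈ M := (show v ∈ K by rw [h]; trivial)
      have := hker _ hv'
      rw [h1, map_zero] at this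
      exact absurd this one_ne_zero
  have hsnd : ∀ x ∈ M, x.1 = 0 → x.2 = 0 := by
    let K : Submodule k W := M.comap (LinearMap.inr k V W)
    have hK : Stable σ K := fun g x hx => by
      have h := hMst g _ (show ((0, x) : V × W) ∈ M from hx)
      rw [hπ, map_zero] at h
      exact h
    rcases hσ.2 K hK with h | h
    · intro x hx e
      have : x.2 ∈ K := by show ((0, x.2) : V × W) ∈ M; rwa [← e]
      rwa [h, Submodule.mem_bot] at this
    · have hw' : ((0, w) : V × W) ∈ M := (show w ∈ K by rw [h]; trivial)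
      have := hker _ hw'
      rw [h2, map_zero] at this
      exact absurd this zero_ne_one
  let p₁ : M →ₗ[k] V := LinearMap.fst k V W ∘ₗ M.subtype
  let p₂ : M →ₗ[k] W := LinearMap.snd k V W ∘ₗ M.subtype
  have hs₁ : Stable ρ (LinearMap.range p₁) := by
    rintro g _ ⟨x, rfl⟩
    exact ⟨⟨π g x, hMst g _ x.2⟩, rfl⟩
  have hs₂ : Stable σ (LinearMap.range p₂) := by
    rintro g _ ⟨x, rfl⟩
    exact ⟨⟨π g x, hMst g _ x.2⟩, rfl⟩
  have hb₁ : Function.Bijective p₁ := by
    refine ⟨LinearMap.ker_eq_bot.mp (LinearMap.ker_eq_bot'.mpr fun x hx => ?_), LinearMap.range_eq_top.mp ?_⟩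
    · exact Subtype.ext (Prod.ext hx (hsnd _ x.2 hx))
    · refine (hρ.2 _ hs₁).resolve_left fun e => hv0 ?_
      have : v ∈ LinearMap.range p₁ := ⟨⟨_, hvwM⟩, rfl⟩
      rwa [e, Submodule.mem_bot] at this
  have hb₂ : Function.Bijective p₂ := by
    refine ⟨LinearMap.ker_eq_bot.mp (LinearMap.ker_eq_bot'.mpr fun x hx => ?_), LinearMap.range_eq_top.mp ?_⟩
    · exact Subtype.ext (Prod.ext (hfst _ x.2 hx) hx)
    · refine (hσ.2 _ hs₂).resolve_left fun e => hw0 ?_
      have : w ∈ LinearMap.range p₂ := ⟨⟨_, hvwM⟩, rfl⟩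
      rwa [e, Submodule.mem_bot] at this
  let e₁ := LinearEquiv.ofBijective p₁ hb₁
  let e₂ := LinearEquiv.ofBijective p₂ hb₂
  funext g
  show LinearMap.trace k V (ρ g) = LinearMap.trace k W (σ g)
  have hg : σ g = (e₁.symm.trans e₂).conj (ρ g) := by
    refine LinearMap.ext fun y => ?_
    obtain ⟨m, rfl⟩ := e₂.surjective y
    rw [LinearEquiv.conj_apply_apply, LinearEquiv.symm_trans_apply, LinearEquiv.symm_symm,
      e₂.symm_apply_apply, LinearEquiv.trans_apply]
    have : ρ g (e₁ m) = e₁ ⟨π g (m : V × W), hMst g _ m.2⟩ := rfl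
    rw [this, e₁.symm_apply_apply]
    rfl
  rw [hg, LinearMap.trace_conj']

end CfsgLib.Modular
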