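import Cfsg.Agent.Lib.KnownB.Modular.Count
import Cfsg.Agent.Lib.KnownB.FieldAut.Fixed

/-!
The Chevalley groups of the tables have a split BN-pair in the sense of `Modular.Ax`.
-/

set_option autoImplicit false
set_option linter.unusedSectionVars false

namespace CfsgLib.Modular.Tabled

open CfsgLib.Chevalley CfsgLib.Chevalley.Tbl

variable {T : Tbl} {F : Type*} [Field F] (hT : T.Valid)
include hT

theorem co_nonneg_iff {v k : ℕ} (hv : v < T.n) (hk : k < T.rank) (h : T.co v k < 0) : v < T.half := by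
  by_contra hge
  have := co_nonneg hT hv (isPos_iff.mpr (not_lt.mp hge)) hk
  omega

theorem pos_le_normalizer_neg (hC : T.chkComm = true) {i r : ℕ} (hi : i < T.rank)
    (hr : r = T.simple i ∨ r = T.neg (T.simple i)) (t : F) :
    T.xU F r t ∈ Subgroup.normalizer
      (T.rootGen F (fun s => s < T.half ∧ s ≠ T.neg (T.simple i)) : Set (GL T.I F)) := by
  have hp := simple_lt hT hi
  have hrn : r < T.n := by rcases hr with rfl | rfl; exacts [hp, neg_lt' hp]
  refine xU_mem_normalizer hT hC hrn (fun s hs ⟨hsn, hsne⟩ hsr => ?_) t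
  have hpp : T.half ≤ T.simple i := isPos_iff.mp (simple_pos hT hi)
  have hs' : T.half ≤ T.neg s := by unfold Tbl.neg Tbl.n at *; omega
  have hne' : T.neg s ≠ T.simple i := fun e => hsne (by rw [← e, neg_neg' hs])
  refine ⟨?_, fun c hc => ?_⟩
  · rcases hr with rfl | rfl
    · exact hsne
    · rw [neg_neg' hp]; unfold Tbl.n at *; omega
  obtain ⟨k, hk, hki, hpos⟩ := ne_simple_neg hT hi (neg_lt' hs) hs' hne'
  rw [co_neg hT hs hk] at hpos
  obtain ⟨-, hj, hco⟩ := commT_co hT hrn hs c hc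
  have hr0 : T.co r k = 0 := by
    rcases hr with rfl | rfl
    · rw [co_simple hT hi hk, if_neg hki]
    · rw [co_neg hT hp hk, co_simple hT hi hk, if_neg hki, _root_.neg_zero]
  have hck : T.co c.1 k < 0 := by
    rw [hco k hk, hr0, mul_zero, zero_add]
    exact mul_neg_of_pos_of_neg (by exact_mod_cast hj) (by linarith)
  refine ⟨co_nonneg_iff hT (commT_lt hT hrn hs c hc) hk hck, fun e => ?_⟩
  rw [e, co_neg hT hp hk, co_simple hT hi hk, if_neg hki, _root_.neg_zero] at hck
  exact lt_irrefl _ hck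

theorem neg_eq_sup_simple {i : ℕ} (hi : i < T.rank) :
    T.rootGen F (fun s => s < T.half ∧ s ≠ T.neg (T.simple i)) ⊔ T.datum.rootSubgroup F (T.neg (T.simple i)) =
      T.rootGen F (fun s => s < T.half) := by
  have hn := neg_lt' (simple_lt hT hi)
  have hlt : T.neg (T.simple i) < T.half := negF_lt (s := T.simpF hT ⟨i, hi⟩) (half_le_simpF hT ⟨i, hi⟩)
  rw [← rootGen_eq_singleton hT hn]
  refine le_antisymm (sup_le (rootGen_mono fun s _ h => h.1)
    (rootGen_mono fun s _ h => h ▸ hlt)) (rootGen_le fun s hs h t => ?_)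
  by_cases e : s = T.neg (T.simple i)
  · exact Subgroup.mem_sup_right (xU_mem_rootGen (P := fun s => s = T.neg (T.simple i)) hs e t)
  · exact Subgroup.mem_sup_left
      (xU_mem_rootGen (P := fun s => s < T.half ∧ s ≠ T.neg (T.simple i)) hs ⟨h, e⟩ t)

theorem ca_refl {i j s : ℕ} (hi : i < T.rank) (hj : j < T.rank) (hs : s < T.n) :
    T.ca j (T.refl i s) = T.ca j s - T.ca i s * T.ca j (T.simple i) := by
  rw [ca_eq hT (refl_lt hT hi hs) hj, ca_eq hT hs hj, ← List.sum_toFinset _ (List.nodup_range (n := T.rank)),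
    ← List.sum_toFinset _ (List.nodup_range (n := T.rank))]
  have h : ∀ k ∈ (List.range T.rank).toFinset, T.co (T.refl i s) k * T.ca j (T.simple k) =
      T.co s k * T.ca j (T.simple k) - (if k = i then T.ca i s * T.ca j (T.simple k) else 0) := by
    intro k hk
    rw [List.mem_toFinset, List.mem_range] at hk
    rw [co_refl hT hi hs hk]
    split_ifs <;> ring
  rw [Finset.sum_congr rfl h, Finset.sum_sub_distrib, Finset.sum_ite_eq' _ i, if_pos (by simpa using hi)]

theorem comm_simple {i : Fin T.rank} {a : GL T.I F} (ha : a ∈ T.datum.diagonalSubgroup F) :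
    ∃ c : Fˣ, T.nU F (T.simple i) 1 * a * (T.nU F (T.simple i) 1)⁻¹ = T.dU (T.hCh (T.simple i) c) * a := by
  obtain ⟨f, rfl⟩ := (mem_diag_iff hT).mp ha
  refine ⟨(∏ j, f j ^ T.ca j (T.simple i))⁻¹, ?_⟩
  rw [nU_simple_dU hT i.2, mul_inv_cancel_right, dU_mul]
  refine dU_congr fun s hs => ?_
  show ∏ j : Fin T.rank, f j ^ T.ca j (T.refl i s) =
    ((∏ j : Fin T.rank, f j ^ T.ca j (T.simple i))⁻¹) ^ T.pair (T.simple i) s * ∏ j, f j ^ T.ca j s
  rw [pair_simple hT i.2, inv_zpow, ← Finset.prod_zpow, ← Finset.prod_inv_distrib, ← Finset.prod_mul_distrib]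
  refine Finset.prod_congr rfl fun j _ => ?_
  rw [ca_refl hT i.2 j.2 hs, ← zpow_mul, ← zpow_neg, ← zpow_add]
  congr 1
  ring

variable (hC : T.chkComm = true)
include hC

omit hC in
theorem simple_of_refl_neg {j : Fin T.rank} {v : Fin T.n} (hv : T.half ≤ v.val)
    (h : (T.refP hT j v).val < T.half) : v = T.simpF hT j := by
  by_contra hne
  exact absurd (refP_pos hT hv hne) (not_le.mpr h)

omit hC in
theorem co_pw_inv (l : List (Fin T.rank)) {i : Fin T.rank} (hi : i ∉ l) :
    T.co ((T.pw hT l)⁻¹ (T.simpF hT i)).val i = 1 := by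
  induction l with
  | nil =>
    rw [pw_nil, inv_one]
    show T.co (T.simple i) i = 1
    rw [co_simple hT i.2 i.2, if_pos rfl]
  | cons j l ih =>
    have hji : i ≠ j := fun e => hi (e ▸ List.mem_cons_self)
    have hil : i ∉ l := fun h => hi (List.mem_cons_of_mem _ h)
    have h1 : ∀ s : Fin T.n, T.co (T.refP hT j s).val i = T.co s.val i := fun s => by
      rw [refP_apply, co_refl hT j.2 s.2 i.2, if_neg (fun e => hji (Fin.ext e)), sub_zero]
    rw [pw_cons, _root_.mul_inv_rev, refP_inv, Equiv.Perm.mul_apply]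
    have h2 : ∀ (m : List (Fin T.rank)), i ∉ m → ∀ s : Fin T.n, T.co ((T.pw hT m)⁻¹ s).val i = T.co s.val i := by
      intro m
      induction m with
      | nil => intro _ s; rw [pw_nil, inv_one]; rfl
      | cons a m ihm =>
        intro hm s
        have hai : i ≠ a := fun e => hm (e ▸ List.mem_cons_self)
        rw [pw_cons, _root_.mul_inv_rev, refP_inv, Equiv.Perm.mul_apply,
          ihm (fun h => hm (List.mem_cons_of_mem _ h)), refP_apply, co_refl hT a.2 s.2 i.2,
          if_neg (fun e => hai (Fin.ext e)), sub_zero]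
    rw [h2 l hil, h1]
    show T.co (T.simple i) i = 1
    rw [co_simple hT i.2 i.2, if_pos rfl]

variable [Fintype F] (p : ℕ) [Fact p.Prime] [CharP F p]

theorem pGroup_pos : IsPGroup p (T.datum.posUnipotent F) := by
  obtain ⟨n, -, hn⟩ := FiniteField.card F p
  refine IsPGroup.of_card (n := n * T.half) ?_
  rw [posUnipotent_rootGen hT, card_ge hT hC T.half T.half (Nat.two_mul _).symm le_rfl, hn, ← pow_mul]

theorem pGroup_neg : IsPGroup p (T.datum.negUnipotent F) := by
  obtain ⟨g, -, e⟩ := exists_conj_pos_eq_neg (F := F) hT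
  rw [← e]
  exact (pGroup_pos hT hC p).map _

/-- The split BN-pair of a table. -/
noncomputable def ax : Ax ↥(T.datum.group F) p F (Fin T.rank) where
  x i t := ⟨T.xU F (T.simple i) t, xU_mem_group hT (simple_lt hT i.2) t⟩
  y i t := ⟨T.xU F (T.neg (T.simple i)) t, xU_mem_group hT (neg_lt' (simple_lt hT i.2)) t⟩
  h i :=
    { toFun := fun c => ⟨T.dU (T.hCh (T.simple i) c), diag_le_group hT (by
        rw [diagonalSubgroup_eq hT]; exact Subgroup.subset_closure ⟨_, simple_lt hT i.2, c, rfl⟩)⟩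
      map_one' := Subtype.ext (by show T.dU (T.hCh (T.simple i) 1) = 1; rw [hCh_one, dU_one])
      map_mul' := fun a b => Subtype.ext (by
        show T.dU (T.hCh (T.simple i) (a * b)) = T.dU (T.hCh (T.simple i) a) * T.dU (T.hCh (T.simple i) b)
        rw [dU_mul, hCh_mul]) }
  n i := ⟨T.nU F (T.simple i) 1, nU_mem_group hT (simple_lt hT i.2) 1⟩
  U := (T.datum.posUnipotent F).subgroupOf _
  V := (T.datum.negUnipotent F).subgroupOf _
  H := (T.datum.diagonalSubgroup F).subgroupOf _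
  N := (T.datum.monomialSubgroup F).subgroupOf _
  U' i := (T.rootGen F (fun s => T.half ≤ s ∧ s ≠ T.simple i)).subgroupOf _
  V' i := (T.rootGen F (fun s => s < T.half ∧ s ≠ T.neg (T.simple i))).subgroupOf _
  x_add i a b := Subtype.ext (xU_add hT (simple_lt hT i.2) a b).symm
  y_add i a b := Subtype.ext (xU_add hT (neg_lt' (simple_lt hT i.2)) a b).symm
  x_mem i t := Subgroup.mem_subgroupOf.mpr (by
    show T.xU F (T.simple i) t ∈ T.datum.posUnipotent F
    rw [posUnipotent_rootGen hT]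
    exact xU_mem_rootGen (P := fun r => T.half ≤ r) (simple_lt hT i.2) (half_le_simpF hT i) t)
  y_mem i t := Subgroup.mem_subgroupOf.mpr (by
    show T.xU F (T.neg (T.simple i)) t ∈ T.datum.negUnipotent F
    rw [negUnipotent_rootGen hT]
    exact xU_mem_rootGen (P := fun r => r < T.half) (neg_lt' (simple_lt hT i.2))
      (negF_lt (s := T.simpF hT i) (half_le_simpF hT i)) t)
  h_mem i c := Subgroup.mem_subgroupOf.mpr (by
    show T.dU (T.hCh (T.simple i) c) ∈ T.datum.diagonalSubgroup F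
    rw [diagonalSubgroup_eq hT]; exact Subgroup.subset_closure ⟨_, simple_lt hT i.2, c, rfl⟩)
  n_mem i := Subgroup.mem_subgroupOf.mpr (nU_simple_mem_N hT i)
  H_le a ha := Subgroup.mem_subgroupOf.mpr (diag_le_N hT (Subgroup.mem_subgroupOf.mp ha))
  H_comm a ha b hb := Subtype.ext (diag_comm hT (Subgroup.mem_subgroupOf.mp ha) (Subgroup.mem_subgroupOf.mp hb))
  n_sq i := Subtype.ext (nU_sq hT (simple_lt hT i.2))
  n_x i t := Subtype.ext (nU_conj hT (simple_lt hT i.2) t)
  n_y i t := Subtype.ext (nU_conj_neg hT (simple_lt hT i.2) t)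
  n_h i c := Subtype.ext (nU_dU_hCh hT (simple_lt hT i.2) c)
  y_eq i a := Subtype.ext (by
    have hp := simple_lt hT i.2
    show T.xU F (T.neg (T.simple i)) (-((a⁻¹ : Fˣ) : F)) = T.xU F (T.simple i) (-(a : F)) *
      (T.dU (T.hCh (T.simple i) a) * T.nU F (T.simple i) 1) * T.xU F (T.simple i) (-(a : F))
    rw [← nU_t hT hp a, nU, ← xU_inv hT hp, Units.val_inv_eq_inv_val]
    group)
  conj_H g hg a ha := Subgroup.mem_subgroupOf.mpr
    (conj_diag hT (Subgroup.mem_subgroupOf.mp hg) (Subgroup.mem_subgroupOf.mp ha))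
  comm_H i a ha := by
    obtain ⟨c, hc⟩ := comm_simple hT (i := i) (Subgroup.mem_subgroupOf.mp ha)
    exact ⟨c, Subtype.ext hc⟩
  H_x a ha i := by
    obtain ⟨c, hc⟩ := (mono_diag hT (Subgroup.mem_subgroupOf.mp ha)).conj (T.simpF hT i)
    exact ⟨c, fun t => Subtype.ext (hc t).1⟩
  H_U a ha u hu := Subgroup.mem_subgroupOf.mpr (by
    have ha' : (a : GL T.I F) ∈ Subgroup.normalizer (T.datum.posUnipotent F : Set (GL T.I F)) := by
      rw [posUnipotent_rootGen hT]; exact diag_le_normalizer hT _ (Subgroup.mem_subgroupOf.mp ha)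
    exact (Subgroup.mem_normalizer_iff.mp ha' _).mp (Subgroup.mem_subgroupOf.mp hu))
  H_V a ha u hu := Subgroup.mem_subgroupOf.mpr (by
    have ha' : (a : GL T.I F) ∈ Subgroup.normalizer (T.datum.negUnipotent F : Set (GL T.I F)) := by
      rw [negUnipotent_rootGen hT]; exact diag_le_normalizer hT _ (Subgroup.mem_subgroupOf.mp ha)
    exact (Subgroup.mem_normalizer_iff.mp ha' _).mp (Subgroup.mem_subgroupOf.mp hu))
  U'_le i u hu := Subgroup.mem_subgroupOf.mpr (by
    rw [posUnipotent_rootGen hT]; exact rootGen_mono (fun s _ h => h.1) (Subgroup.mem_subgroupOf.mp hu))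
  V'_le i u hu := Subgroup.mem_subgroupOf.mpr (by
    rw [negUnipotent_rootGen hT]; exact rootGen_mono (fun s _ h => h.1) (Subgroup.mem_subgroupOf.mp hu))
  U_split i u hu := by
    have hp := simple_lt hT i.2
    have hnorm : T.datum.rootSubgroup F (T.simple i) ≤ Subgroup.normalizer
        (T.rootGen F (fun s => T.half ≤ s ∧ s ≠ T.simple i) : Set (GL T.I F)) := fun g hg => by
      obtain ⟨t, rfl⟩ := (mem_rootSubgroup_iff hT hp).mp hg
      exact xU_mem_normalizer_simple hT hC i.2 (Or.inl rfl) t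
    have h := Subgroup.mem_subgroupOf.mp hu
    rw [← pos_eq_sup_simple hT i.2, sup_comm, ← SetLike.mem_coe,
      Subgroup.coe_mul_of_left_le_normalizer_right _ _ hnorm] at h
    obtain ⟨x, hx, u', hu', e⟩ := h
    obtain ⟨t, rfl⟩ := (mem_rootSubgroup_iff hT hp).mp hx
    exact ⟨t, ⟨u', (rootGen_le fun r hr _ t => xU_mem_group hT hr t :
      T.rootGen F _ ≤ T.datum.group F) hu'⟩, Subgroup.mem_subgroupOf.mpr hu', Subtype.ext e.symm⟩
  V_split i u hu := by
    have hn := neg_lt' (simple_lt hT i.2)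
    have hnorm : T.datum.rootSubgroup F (T.neg (T.simple i)) ≤ Subgroup.normalizer
        (T.rootGen F (fun s => s < T.half ∧ s ≠ T.neg (T.simple i)) : Set (GL T.I F)) := fun g hg => by
      obtain ⟨t, rfl⟩ := (mem_rootSubgroup_iff hT hn).mp hg
      exact pos_le_normalizer_neg hT hC i.2 (Or.inr rfl) t
    have h := Subgroup.mem_subgroupOf.mp hu
    rw [negUnipotent_rootGen hT, ← neg_eq_sup_simple hT i.2, ← SetLike.mem_coe,
      Subgroup.coe_mul_of_right_le_normalizer_left _ _ hnorm] at h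
    obtain ⟨u', hu', x, hx, e⟩ := h
    obtain ⟨t, rfl⟩ := (mem_rootSubgroup_iff hT hn).mp hx
    exact ⟨⟨u', (rootGen_le fun r hr _ t => xU_mem_group hT hr t :
      T.rootGen F _ ≤ T.datum.group F) hu'⟩, Subgroup.mem_subgroupOf.mpr hu', t, Subtype.ext e.symm⟩
  x_U' i t u hu := Subgroup.mem_subgroupOf.mpr
    ((Subgroup.mem_normalizer_iff.mp (xU_mem_normalizer_simple hT hC i.2 (Or.inl rfl) t) _).mp
      (Subgroup.mem_subgroupOf.mp hu))
  x_V' i t u hu := Subgroup.mem_subgroupOf.mpr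
    ((Subgroup.mem_normalizer_iff.mp (pos_le_normalizer_neg hT hC i.2 (Or.inl rfl) t) _).mp
      (Subgroup.mem_subgroupOf.mp hu))
  n_U' i u hu := Subgroup.mem_subgroupOf.mpr (conj_Up hT i (Subgroup.mem_subgroupOf.mp hu))
  x_not_U' i t h := by
    have hp := simple_lt hT i.2
    have h1 := conj_Up hT i (Subgroup.mem_subgroupOf.mp h)
    change T.nU F (T.simple i) 1 * T.xU F (T.simple i) t * (T.nU F (T.simple i) 1)⁻¹ ∈ _ at h1
    rw [nU_conj hT hp, mul_inv_cancel_right] at h1
    have h2 : T.xU F (T.neg (T.simple i)) (-t) ∈ T.datum.negUnipotent F := by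
      rw [negUnipotent_rootGen hT]
      exact xU_mem_rootGen (P := fun r => r < T.half) (neg_lt' hp)
        (negF_lt (s := T.simpF hT i) (half_le_simpF hT i)) _
    have h3 : T.xU F (T.neg (T.simple i)) (-t) ∈ T.datum.borelSubgroup F := by
      refine Subgroup.mem_sup_left ?_
      rw [posUnipotent_rootGen hT]
      exact rootGen_mono (fun s _ h => h.1) h1
    have h4 : T.xU F (T.neg (T.simple i)) (-t) ∈ (⊥ : Subgroup (GL T.I F)) :=
      borel_inf_neg (T := T) (F := F) hT ▸ ⟨h3, h2⟩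
    rw [Subgroup.mem_bot, ← xU_zero hT (neg_lt' hp)] at h4
    exact neg_eq_zero.mp (xU_inj hT (neg_lt' hp) h4)
  gen := by
    rw [eq_top_iff]
    rintro ⟨g, hg⟩ -
    set S : Set ↥(T.datum.group F) := _ ∪ _
    suffices g ∈ (Subgroup.closure S).map (T.datum.group F).subtype by
      obtain ⟨z, hz, e⟩ := this
      rwa [show (⟨g, hg⟩ : ↥(T.datum.group F)) = z from Subtype.ext e.symm]
    set K := (Subgroup.closure S).map (T.datum.group F).subtype with hK
    have hx : ∀ (i : Fin T.rank) t, T.xU F (T.simple i) t ∈ K := fun i t =>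
      ⟨_, Subgroup.subset_closure (Or.inl ⟨(i, t), rfl⟩), rfl⟩
    have hy : ∀ (i : Fin T.rank) t, T.xU F (T.neg (T.simple i)) t ∈ K := fun i t =>
      ⟨_, Subgroup.subset_closure (Or.inr ⟨(i, t), rfl⟩), rfl⟩
    rw [group_eq hT] at hg
    refine (Subgroup.closure_le _).mpr ?_ hg
    rintro _ ⟨r, hr, t, rfl⟩
    obtain ⟨i, hi, g, e, hg, ⟨he, h1, -⟩, -⟩ := exists_carries (F := F) hT r hr
    have hgK : g ∈ K := by
      refine (Subgroup.closure_le _).mpr ?_ hg
      rintro _ ⟨j, hj, rfl⟩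
      exact mul_mem (mul_mem (hx ⟨j, hj⟩ _) (hy ⟨j, hj⟩ _)) (hx ⟨j, hj⟩ _)
    have hee : e * e = 1 := by rcases he with rfl | rfl <;> norm_num
    have : T.xU F r t = g * T.xU F (T.simple i) (e * t) * g⁻¹ := by
      rw [h1, ← mul_assoc e, hee, one_mul, mul_inv_cancel_right]
    rw [this]
    exact mul_mem (mul_mem hgK (hx ⟨i, hi⟩ _)) (inv_mem hgK)
  pU := (pGroup_pos hT hC p).comap_of_injective _ Subtype.val_injective
  pV := (pGroup_neg hT hC p).comap_of_injective _ Subtype.val_injective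
  U_inf_V := by
    rw [eq_bot_iff]
    rintro g ⟨h1, h2⟩
    have : (g : GL T.I F) ∈ (⊥ : Subgroup (GL T.I F)) := borel_inf_neg (T := T) (F := F) hT ▸
      ⟨Subgroup.mem_sup_left (Subgroup.mem_subgroupOf.mp h1), Subgroup.mem_subgroupOf.mp h2⟩
    exact Subgroup.mem_bot.mpr (Subtype.ext (Subgroup.mem_bot.mp this))
  U_inf_H := by
    rw [eq_bot_iff]
    rintro g ⟨h1, h2⟩
    have : (g : GL T.I F) ∈ (⊥ : Subgroup (GL T.I F)) := pos_inf_diag (T := T) (F := F) hT ▸
      ⟨Subgroup.mem_subgroupOf.mp h1, Subgroup.mem_subgroupOf.mp h2⟩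
    exact Subgroup.mem_bot.mpr (Subtype.ext (Subgroup.mem_bot.mp this))
  dich g hg i := by
    obtain ⟨w, -, hm⟩ := exists_mono hT (Subgroup.mem_subgroupOf.mp hg)
    obtain ⟨c, hc⟩ := hm.inv.conj (T.simpF hT i)
    set v := w⁻¹ (T.simpF hT i)
    have e1 : ∀ t, (g : GL T.I F)⁻¹ * T.xU F (T.simple i) t * (g : GL T.I F) = T.xU F v.val ((c : F) * t) :=
      fun t => by
        have := (hc t).1
        change (g : GL T.I F)⁻¹ * T.xU F (T.simple i) t = _ at this
        rw [this, inv_mul_cancel_right]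
    have e2 : ∀ t, (g : GL T.I F)⁻¹ * T.xU F (T.neg (T.simple i)) t * (g : GL T.I F) =
        T.xU F (T.negF v).val (((c⁻¹ : Fˣ) : F) * t) := fun t => by
        have := (hc t).2
        change (g : GL T.I F)⁻¹ * T.xU F (T.neg (T.simple i)) t = _ at this
        rw [this, inv_mul_cancel_right]
        rfl
    have hU : ∀ (r : Fin T.n) t, T.half ≤ r.val → T.xU F r.val t ∈ T.datum.posUnipotent F := fun r t h => by
      rw [posUnipotent_rootGen hT]; exact xU_mem_rootGen (P := fun r => T.half ≤ r) r.2 h t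
    have hV : ∀ (r : Fin T.n) t, r.val < T.half → T.xU F r.val t ∈ T.datum.negUnipotent F := fun r t h => by
      rw [negUnipotent_rootGen hT]; exact xU_mem_rootGen (P := fun r => r < T.half) r.2 h t
    by_cases h : T.half ≤ v.val
    · refine Or.inl fun t => ⟨Subgroup.mem_subgroupOf.mpr ?_, Subgroup.mem_subgroupOf.mpr ?_⟩
      · show (g : GL T.I F)⁻¹ * T.xU F (T.simple i) t * (g : GL T.I F) ∈ _
        rw [e1]; exact hU _ _ h
      · show (g : GL T.I F)⁻¹ * T.xU F (T.neg (T.simple i)) t * (g : GL T.I F) ∈ _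
        rw [e2]; exact hV _ _ (negF_lt h)
    · refine Or.inr fun t => ⟨Subgroup.mem_subgroupOf.mpr ?_, Subgroup.mem_subgroupOf.mpr ?_⟩
      · show (g : GL T.I F)⁻¹ * T.xU F (T.simple i) t * (g : GL T.I F) ∈ _
        rw [e1]; exact hV _ _ (not_le.mp h)
      · show (g : GL T.I F)⁻¹ * T.xU F (T.neg (T.simple i)) t * (g : GL T.I F) ∈ _
        rw [e2]; exact hU _ _ (le_negF (not_le.mp h))
  inc g hg i hinc z hz hzV := by
    obtain ⟨w, -, hm⟩ := exists_mono hT (Subgroup.mem_subgroupOf.mp hg)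
    have hmi := hm.inv
    have hvpos : T.half ≤ (w⁻¹ (T.simpF hT i)).val := by
      by_contra hneg
      obtain ⟨c, hc⟩ := hmi.conj (T.simpF hT i)
      have h1 : (g : GL T.I F)⁻¹ * T.xU F (T.simple i) 1 * (g : GL T.I F) =
          T.xU F (w⁻¹ (T.simpF hT i)).val ((c : F) * 1) := by
        have := (hc 1).1
        change (g : GL T.I F)⁻¹ * T.xU F (T.simple i) 1 = _ at this
        rw [this, inv_mul_cancel_right]
      have h2 : T.xU F (w⁻¹ (T.simpF hT i)).val ((c : F) * 1) ∈ T.datum.posUnipotent F := by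
        rw [← h1]; exact Subgroup.mem_subgroupOf.mp (hinc 1)
      have h3 : T.xU F (w⁻¹ (T.simpF hT i)).val ((c : F) * 1) ∈ T.datum.negUnipotent F := by
        rw [negUnipotent_rootGen hT]
        exact xU_mem_rootGen (P := fun r => r < T.half) (w⁻¹ _).2 (not_le.mp hneg) _
      have h4 : T.xU F (w⁻¹ (T.simpF hT i)).val ((c : F) * 1) ∈ (⊥ : Subgroup (GL T.I F)) :=
        borel_inf_neg (T := T) (F := F) hT ▸ ⟨Subgroup.mem_sup_left h2, h3⟩
      rw [Subgroup.mem_bot, ← xU_zero hT (w⁻¹ (T.simpF hT i)).2] at h4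
      exact mul_ne_zero c.ne_zero one_ne_zero (xU_inj hT (w⁻¹ (T.simpF hT i)).2 h4)
    have hz' : (z : GL T.I F) ∈ T.rootGen F (fun r => T.half ≤ r) := by
      rw [← posUnipotent_rootGen hT]; exact Subgroup.mem_subgroupOf.mp hz
    obtain ⟨a, ha, b, hb, e⟩ := exists_factor hT hC (T.posSet w⁻¹) (T.negSet w⁻¹) (fun r hr hrp => by
      rcases Nat.lt_or_ge (w⁻¹ ⟨r, hr⟩).val T.half with h | h
      · exact Or.inr ⟨hr, hrp, h⟩
      · exact Or.inl ⟨hr, hrp, h⟩) T.half T.half (Nat.two_mul _).symm le_rfl _ hz'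
    have h1 : (g : GL T.I F)⁻¹ * a * g ∈ T.datum.borelSubgroup F := by
      refine Subgroup.mem_sup_left ?_
      rw [posUnipotent_rootGen hT]
      have := conj_mem_rootGen hT hmi (Q := fun r => T.half ≤ r) (fun s ⟨_, _, h⟩ => h) ha
      rwa [inv_inv] at this
    have h2 : (g : GL T.I F)⁻¹ * b * g ∈ T.datum.negUnipotent F := by
      rw [negUnipotent_rootGen hT]
      have := conj_mem_rootGen hT hmi (Q := fun r => r < T.half) (fun s ⟨_, _, h⟩ => h) hb
      rwa [inv_inv] at this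
    have h3 : (g : GL T.I F)⁻¹ * a * g ∈ T.datum.negUnipotent F := by
      have h := mul_mem (Subgroup.mem_subgroupOf.mp hzV : (g : GL T.I F)⁻¹ * z * g ∈ _) (inv_mem h2)
      rwa [Subgroup.coe_mul, Subgroup.coe_mul, Subgroup.coe_inv, e, show (g : GL T.I F)⁻¹ * (a * b) * g * ((g : GL T.I F)⁻¹ * b * g)⁻¹ = (g : GL T.I F)⁻¹ * a * g by group] at h
    have h4 : (g : GL T.I F)⁻¹ * a * g ∈ (⊥ : Subgroup (GL T.I F)) :=
      borel_inf_neg (T := T) (F := F) hT ▸ ⟨h1, h3⟩
    have ha1 : a = 1 := by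
      rw [Subgroup.mem_bot] at h4
      simpa [mul_assoc] using congrArg (fun x => (g : GL T.I F) * x * (g : GL T.I F)⁻¹) h4
    rw [Subgroup.mem_subgroupOf, e, ha1, one_mul]
    refine rootGen_mono (fun s hs ⟨_, hsp, hsn⟩ => (⟨hsp, fun he => ?_⟩ : T.half ≤ s ∧ s ≠ T.simple i)) hb
    rw [show (⟨s, hs⟩ : Fin T.n) = T.simpF hT i from Fin.ext he] at hsn
    omega
  top g hg hall := by
    obtain ⟨w, hw, hm⟩ := exists_mono hT (Subgroup.mem_subgroupOf.mp hg)
    have hw1 : w⁻¹ = 1 := eq_one_of_pos hT (inv_mem hw) fun i => by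
      by_contra hneg
      obtain ⟨c, hc⟩ := hm.inv.conj (T.simpF hT i)
      have h1 : (g : GL T.I F)⁻¹ * T.xU F (T.simple i) 1 * (g : GL T.I F) =
          T.xU F (w⁻¹ (T.simpF hT i)).val ((c : F) * 1) := by
        have := (hc 1).1
        change (g : GL T.I F)⁻¹ * T.xU F (T.simple i) 1 = _ at this
        rw [this, inv_mul_cancel_right]
      have h2 : T.xU F (w⁻¹ (T.simpF hT i)).val ((c : F) * 1) ∈ T.datum.posUnipotent F := by
        rw [← h1]; exact Subgroup.mem_subgroupOf.mp (hall i 1)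
      have h3 : T.xU F (w⁻¹ (T.simpF hT i)).val ((c : F) * 1) ∈ T.datum.negUnipotent F := by
        rw [negUnipotent_rootGen hT]
        exact xU_mem_rootGen (P := fun r => r < T.half) (w⁻¹ _).2 (not_le.mp hneg) _
      have h4 : T.xU F (w⁻¹ (T.simpF hT i)).val ((c : F) * 1) ∈ (⊥ : Subgroup (GL T.I F)) :=
        borel_inf_neg (T := T) (F := F) hT ▸ ⟨Subgroup.mem_sup_left h2, h3⟩
      rw [Subgroup.mem_bot, ← xU_zero hT (w⁻¹ (T.simpF hT i)).2] at h4
      exact mul_ne_zero c.ne_zero one_ne_zero (xU_inj hT (w⁻¹ (T.simpF hT i)).2 h4)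
    rw [inv_eq_one] at hw1
    subst hw1
    exact Subgroup.mem_subgroupOf.mpr (mem_diag_of_mono_one hT (Subgroup.mem_subgroupOf.mp hg) hm)
  w0 := by
    obtain ⟨n, hn, e⟩ := exists_conj_pos_eq_neg (F := F) hT
    refine ⟨⟨n⁻¹, monomial_le_group hT (inv_mem hn)⟩, Subgroup.mem_subgroupOf.mpr (inv_mem hn),
      fun z hz => Subgroup.mem_subgroupOf.mpr ?_, fun u hu => Subgroup.mem_subgroupOf.mpr ?_⟩
    · have hz' := Subgroup.mem_subgroupOf.mp hz
      rw [← e] at hz'
      obtain ⟨u, hu, hu'⟩ := hz'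
      show n⁻¹ * (z : GL T.I F) * n⁻¹⁻¹ ∈ _
      rw [← hu']
      show n⁻¹ * (n * u * n⁻¹) * n⁻¹⁻¹ ∈ _
      rwa [show n⁻¹ * (n * u * n⁻¹) * n⁻¹⁻¹ = u by group]
    · show n⁻¹⁻¹ * (u : GL T.I F) * n⁻¹ ∈ _
      rw [← e, inv_inv]
      exact ⟨u, Subgroup.mem_subgroupOf.mp hu, rfl⟩
  exch g hg i j hU hV := by
    obtain ⟨w, hw, hm⟩ := exists_mono hT (Subgroup.mem_subgroupOf.mp hg)
    obtain ⟨c, hc⟩ := hm.conj (T.simpF hT i)
    set v := w (T.simpF hT i)
    have hnx : ∀ {S : Subgroup (GL T.I F)} (r : Fin T.n) (a : F), a ≠ 0 → T.xU F r.val a ∈ S →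
        S ⊓ T.rootGen F (fun s => s = r.val) ≠ ⊥ := fun {S} r a ha h hb => by
      have : T.xU F r.val a ∈ S ⊓ T.rootGen F (fun s => s = r.val) :=
        ⟨h, xU_mem_rootGen (P := fun s => s = r.val) r.2 rfl a⟩
      rw [hb, Subgroup.mem_bot, ← xU_zero hT r.2] at this
      exact ha (xU_inj hT r.2 this)
    have e1 : ∀ t, (g : GL T.I F) * T.xU F (T.simple i) t * (g : GL T.I F)⁻¹ = T.xU F v.val ((c : F) * t) :=
      fun t => by
        have := (hc t).1
        change (g : GL T.I F) * T.xU F (T.simple i) t = _ at this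
        rw [this, mul_inv_cancel_right]
    have hvpos : T.half ≤ v.val := by
      by_contra hneg
      refine hnx (S := T.datum.borelSubgroup F) v ((c : F) * 1) (mul_ne_zero c.ne_zero one_ne_zero) ?_ ?_
      · rw [← e1]; exact Subgroup.mem_sup_left (Subgroup.mem_subgroupOf.mp (hU 1))
      · rw [eq_bot_iff, ← borel_inf_neg (T := T) (F := F) hT, negUnipotent_rootGen hT]
        exact inf_le_inf_left _ (rootGen_mono fun s _ h => h ▸ not_le.mp hneg)
    have hvj : v = T.simpF hT j := by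
      refine simple_of_refl_neg hT hvpos (not_le.mp fun hge => ?_)
      obtain ⟨d, hd⟩ := (mono_nU_simple (F := F) hT j).conj v
      refine hnx (S := T.datum.negUnipotent F) (T.refP hT j v) ((d : F) * ((c : F) * 1))
        (mul_ne_zero d.ne_zero (mul_ne_zero c.ne_zero one_ne_zero)) ?_ ?_
      · have h := Subgroup.mem_subgroupOf.mp (hV 1)
        change T.nU F (T.simple j) 1 * ((g : GL T.I F) * T.xU F (T.simple i) 1 * (g : GL T.I F)⁻¹) *
          (T.nU F (T.simple j) 1)⁻¹ ∈ _ at h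
        rwa [e1, (hd _).1, mul_inv_cancel_right] at h
      · rw [eq_bot_iff, ← borel_inf_neg (T := T) (F := F) hT, inf_comm (T.datum.borelSubgroup F)]
        refine inf_le_inf_left _ (le_trans ?_ le_sup_left)
        rw [posUnipotent_rootGen hT]
        exact rootGen_mono fun s _ h => h ▸ hge
    rw [hvj] at hc
    refine ⟨c, Subtype.ext ?_⟩
    show (g : GL T.I F) * T.nU F (T.simple i) 1 * (g : GL T.I F)⁻¹ =
      T.dU (T.hCh (T.simple j) c) * T.nU F (T.simple j) 1
    have := nU_congr hT (simple_lt hT i.2) (t := (1 : F)) (g : GL T.I F) (fun u => (c : F) * u)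
      (fun u => ((c⁻¹ : Fˣ) : F) * u) (T.simple j) (fun u => (hc u).1) (fun u => (hc u).2) (by simp)
    rw [this, mul_inv_cancel_right, mul_one, nU_t hT (simple_lt hT j.2) c]
  levi l i hi t := Subgroup.mem_subgroupOf.mpr (by
    have hm : ((l.map fun j : Fin T.rank => (⟨T.nU F (T.simple j) 1, nU_mem_group hT (simple_lt hT j.2) 1⟩ :
        ↥(T.datum.group F))).prod : GL T.I F) = T.nw F l := by
      rw [SubmonoidClass.coe_list_prod, List.map_map]; rfl
    rw [Subgroup.coe_mul, Subgroup.coe_mul, Subgroup.coe_inv, hm]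
    obtain ⟨c, hc⟩ := (mono_nw (F := F) hT l).inv.conj (T.simpF hT i)
    have hpos : T.half ≤ ((T.pw hT l)⁻¹ (T.simpF hT i)).val :=
      half_le_of_co hT (Fin.isLt _) i.2 (by rw [co_pw_inv hT l hi]; exact one_pos)
    have := (hc t).1
    change (T.nw F l)⁻¹ * T.xU F (T.simple i) t = _ at this
    show (T.nw F l)⁻¹ * T.xU F (T.simple i) t * T.nw F l ∈ _
    rw [this, inv_mul_cancel_right, posUnipotent_rootGen hT]
    exact xU_mem_rootGen (P := fun r => T.half ≤ r) (Fin.isLt _) hpos _)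
  bruhat z := by
    obtain ⟨b, hb, n, hn, w, -, -, v, hv, e⟩ := exists_canonical hT hC z.2
    obtain ⟨u, hu, h, hh, rfl⟩ := (mem_borel_iff hT).mp hb
    have hv' : v ∈ T.datum.posUnipotent F := by
      rw [posUnipotent_rootGen hT]; exact rootGen_mono (fun s _ ⟨_, h, _⟩ => h) hv
    have hposG : T.datum.posUnipotent F ≤ T.datum.group F := le_trans le_sup_left (borel_le_group hT)
    refine ⟨⟨u, hposG hu⟩, Subgroup.mem_subgroupOf.mpr hu,
      ⟨h * n, monomial_le_group hT (mul_mem (diag_le_N hT hh) hn)⟩,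
      Subgroup.mem_subgroupOf.mpr (mul_mem (diag_le_N hT hh) hn), ⟨v, hposG hv'⟩,
      Subgroup.mem_subgroupOf.mpr hv', Subtype.ext ?_⟩
    show (z : GL T.I F) = u * (h * n) * v
    rw [e]; group
  bruhat_unique u hu g hg v hv g' hg' e := by
    obtain ⟨w, -, hm⟩ := exists_mono hT (Subgroup.mem_subgroupOf.mp hg)
    have hv' : (v : GL T.I F) ∈ T.rootGen F (fun r => T.half ≤ r) := by
      rw [← posUnipotent_rootGen hT]; exact Subgroup.mem_subgroupOf.mp hv
    obtain ⟨a, ha, b, hb, eab⟩ := exists_factor hT hC (T.posSet w) (T.negSet w) (fun r hr hrp => by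
      rcases Nat.lt_or_ge (w ⟨r, hr⟩).val T.half with h | h
      · exact Or.inr ⟨hr, hrp, h⟩
      · exact Or.inl ⟨hr, hrp, h⟩) T.half T.half (Nat.two_mul _).symm le_rfl _ hv'
    set u1 := (u : GL T.I F) * ((g : GL T.I F) * a * (g : GL T.I F)⁻¹)
    have hu1 : u1 ∈ T.datum.posUnipotent F := by
      refine mul_mem (Subgroup.mem_subgroupOf.mp hu) ?_
      rw [posUnipotent_rootGen hT]
      exact conj_mem_rootGen hT hm (fun s ⟨_, _, h⟩ => h) ha
    have e' : u1 * g * b = (g' : GL T.I F) := by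
      rw [← e, Subgroup.coe_mul, Subgroup.coe_mul, eab]; simp only [u1]; group
    obtain ⟨w', -, hm'⟩ := exists_mono hT (Subgroup.mem_subgroupOf.mp hg')
    have hdiag := (canonical_unique hT hC (Subgroup.mem_sup_left hu1) (one_mem _) (Subgroup.mem_subgroupOf.mp hg)
      (Subgroup.mem_subgroupOf.mp hg') hm hb (one_mem (T.rootGen F (T.negSet w'))) (by rw [e', one_mul, mul_one])).1
    set h := (g : GL T.I F)⁻¹ * g' with hh
    have hgh : (g : GL T.I F) * h * (g : GL T.I F)⁻¹ ∈ T.datum.diagonalSubgroup F :=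
      conj_diag hT (Subgroup.mem_subgroupOf.mp hg) hdiag
    obtain ⟨h1, h2⟩ := (canonical_unique hT hC (Subgroup.mem_sup_left hu1)
      (Subgroup.mem_sup_right hgh) (Subgroup.mem_subgroupOf.mp hg) (Subgroup.mem_subgroupOf.mp hg) hm hb
      (one_mem (T.rootGen F (T.negSet w))) (by rw [e', hh]; group)).2 hm rfl
    have h3 : u1 ∈ (⊥ : Subgroup (GL T.I F)) := pos_inf_diag (T := T) (F := F) hT ▸ ⟨hu1, h1 ▸ hgh⟩
    rw [Subgroup.mem_bot] at h3
    exact Subtype.ext (by rw [← e', h3, h2, one_mul, mul_one])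

omit [Fintype F] [Fact p.Prime] [CharP F p] hC in
theorem torusHom_mulSingle (i : Fin T.rank) (c : Fˣ) :
    torusHom T F (Pi.mulSingle i c) = T.dU (T.hCh (T.simple i) c) := by
  refine dU_congr fun s _ => ?_
  rw [Finset.prod_eq_single i]
  · simp [hCh, pair_simple hT i.2]
  · intro j _ hj; simp [Pi.mulSingle_eq_of_ne hj]
  · simp

/-- The count of classes for a table with an injective torus map. -/
theorem card_pRegular (hinj : Function.Injective (torusHom T F)) :
    Nat.card {c : ConjClasses ↥(T.datum.group F) //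
      ∃ g, ConjClasses.mk g = c ∧ (orderOf g).Coprime p} = Fintype.card F ^ T.rank := by
  haveI : Finite (GL T.I F) := inferInstance
  haveI : Finite ↥(T.datum.group F) := inferInstance
  let A := ax (F := F) hT hC p
  let f : (Fin T.rank → Fˣ) →* A.H :=
    { toFun := fun c => ⟨⟨torusHom T F c, diag_le_group hT ((torusHom_range hT).le ⟨c, rfl⟩)⟩,
        Subgroup.mem_subgroupOf.mpr ((torusHom_range hT).le ⟨c, rfl⟩)⟩
      map_one' := Subtype.ext (Subtype.ext (map_one _))
      map_mul' := fun a b => Subtype.ext (Subtype.ext (map_mul _ a b)) }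
  have hf : Function.Bijective f := by
    refine ⟨fun a b e => hinj (congrArg Subtype.val (congrArg Subtype.val e)), fun a => ?_⟩
    obtain ⟨c, hc⟩ := (torusHom_range hT).ge (Subgroup.mem_subgroupOf.mp a.2)
    exact ⟨c, Subtype.ext (Subtype.ext hc)⟩
  haveI : CharP (AlgebraicClosure (ZMod p)) p :=
    charP_of_injective_algebraMap (algebraMap (ZMod p) (AlgebraicClosure (ZMod p))).injective p
  have := CfsgLib.Modular.card_pRegular (k := AlgebraicClosure (ZMod p)) A (MulEquiv.ofBijective f hf)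
    fun (i : Fin T.rank) c => by
      apply Subtype.ext
      rw [MulEquiv.ofBijective_apply]
      show torusHom T F _ = T.dU (T.hCh (T.simple i) c)
      convert torusHom_mulSingle hT i c using 4
  rwa [Fintype.card_fin] at this

end CfsgLib.Modular.Tabled
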