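import Cfsg.Agent.Lib.KnownB.Modular.Ax
import Cfsg.Agent.Lib.Char.SimpleTrace

/-!
Weight vectors: vectors fixed by `U` on which `H` acts by a character.
-/

set_option autoImplicit false
set_option linter.unusedSectionVars false

namespace CfsgLib.Modular

open Module (finrank)

universe w

variable {G : Type*} [Group G] [Finite G] {p : ℕ} [Fact p.Prime] {k : Type*} [Field k] [CharP k p]

/-- A finite group of `p`-power order fixes a nonzero vector in characteristic `p`. -/
theorem exists_fixed {V : Type w} [AddCommGroup V] [Module k V] [Nontrivial V] (ρ : Representation k G V)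
    {P : Subgroup G} (hP : IsPGroup p P) : ∃ v : V, v ≠ 0 ∧ ∀ g ∈ P, ρ g v = v := by
  classical
  obtain ⟨v, hv⟩ := exists_ne (0 : V)
  have hpv : ∀ x : V, p • x = 0 := fun x => by
    rw [← Nat.cast_smul_eq_nsmul k, CharP.cast_eq_zero, zero_smul]
  let A : AddSubgroup V := AddSubgroup.closure (Set.range fun g : G => ρ g v)
  haveI : Fintype G := Fintype.ofFinite G
  let Φ : (G → Fin p) → V := fun c => ∑ g, (c g : ℕ) • ρ g v
  haveI : NeZero p := ⟨(Fact.out : p.Prime).ne_zero⟩
  have hA : ∀ a ∈ A, a ∈ Set.range Φ := by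
    have hadd : ∀ c d : G → Fin p, Φ c + Φ d = Φ (c + d) := fun c d => by
      simp only [Φ, ← Finset.sum_add_distrib, ← add_nsmul]
      refine Finset.sum_congr rfl fun g _ => ?_
      rw [Pi.add_apply, Fin.val_add]
      conv_lhs => rw [← Nat.mod_add_div ((c g : ℕ) + d g) p, add_nsmul, mul_nsmul, hpv, nsmul_zero, add_zero]
    have hsmul : ∀ (m : ℕ) (c : G → Fin p), ∃ d, m • Φ c = Φ d := by
      intro m
      induction m with
      | zero => exact fun c => ⟨0, by simp [Φ]⟩
      | succ m ih => exact fun c => by obtain ⟨d, hd⟩ := ih c; exact ⟨d + c, by rw [succ_nsmul, hd, hadd]⟩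
    intro a ha
    induction ha using AddSubgroup.closure_induction with
    | mem x hx =>
      obtain ⟨g, rfl⟩ := hx
      refine ⟨Pi.single g 1, ?_⟩
      simp only [Φ]
      rw [Finset.sum_eq_single g (fun b _ hb => by simp [Pi.single_eq_of_ne hb]) (by simp), Pi.single_eq_same,
        Fin.val_one' p, Nat.mod_eq_of_lt (Fact.out : p.Prime).one_lt, one_nsmul]
    | zero => exact ⟨0, by simp [Φ]⟩
    | add x y _ _ hx hy =>
      obtain ⟨c, rfl⟩ := hx; obtain ⟨d, rfl⟩ := hy
      exact ⟨c + d, (hadd c d).symm⟩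
    | neg x _ hx =>
      obtain ⟨c, rfl⟩ := hx
      obtain ⟨d, hd⟩ := hsmul (p - 1) c
      refine ⟨d, ?_⟩
      rw [← hd]
      refine eq_neg_of_add_eq_zero_left ?_
      conv_lhs => arg 2; rw [← one_nsmul (Φ c)]
      rw [← add_nsmul, Nat.sub_add_cancel (Fact.out : p.Prime).one_le, hpv]
  haveI : Finite A := ((Set.finite_range Φ).subset hA).to_subtype
  have hvA : v ∈ A := AddSubgroup.subset_closure ⟨1, by simp⟩
  have hst : ∀ g : G, ∀ a ∈ A, ρ g a ∈ A := by
    intro g a ha
    have hle : A ≤ A.comap (ρ g).toAddMonoidHom := by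
      refine (AddSubgroup.closure_le _).mpr ?_
      rintro _ ⟨b, rfl⟩
      show ρ g (ρ b v) ∈ A
      rw [← Module.End.mul_apply, ← map_mul]
      exact AddSubgroup.subset_closure ⟨g * b, rfl⟩
    exact hle ha
  letI : MulAction P A :=
    { smul := fun g a => ⟨ρ (g : G) a, hst _ _ a.2⟩
      one_smul := fun a => Subtype.ext (by show ρ 1 (a : V) = a; simp)
      mul_smul := fun g g' a => Subtype.ext (by show ρ ((g : G) * g') (a : V) = ρ (g : G) (ρ (g' : G) a); simp) }
  have hdvd : p ∣ Nat.card A := by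
    have h1 : addOrderOf (⟨v, hvA⟩ : A) = p :=
      addOrderOf_eq_prime (Subtype.ext (hpv v)) (fun e => hv (congrArg Subtype.val e))
    exact h1 ▸ addOrderOf_dvd_natCard _
  obtain ⟨b, hb, hne⟩ := hP.exists_fixed_point_of_prime_dvd_card_of_fixed_point A hdvd (a := 0)
    fun g => Subtype.ext (map_zero (ρ (g : G)))
  exact ⟨b, fun e => hne (Subtype.ext e.symm), fun g hg => congrArg Subtype.val (hb ⟨g, hg⟩)⟩

/-- Commuting operators of a finite group on a nonzero space have a common eigenvector. -/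
theorem exists_eigen [IsAlgClosed k] {V : Type w} [AddCommGroup V] [Module k V] [FiniteDimensional k V]
    (ρ : Representation k G V) (H : Subgroup G) (hH : ∀ a ∈ H, ∀ b ∈ H, a * b = b * a) :
    ∀ (d : ℕ) (W : Submodule k V), finrank k W = d → W ≠ ⊥ → (∀ a ∈ H, ∀ x ∈ W, ρ a x ∈ W) →
      ∃ v ∈ W, v ≠ 0 ∧ ∃ χ : H →* kˣ, ∀ a : H, ρ (a : G) v = (χ a : k) • v := by
  intro d
  induction d using Nat.strong_induction_on with
  | _ d IH =>
  intro W hd hW hst
  haveI : Nontrivial W := Submodule.nontrivial_iff_ne_bot.mpr hW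
  by_cases hsc : ∀ a ∈ H, ∃ c : k, ∀ x ∈ W, ρ a x = c • x
  · obtain ⟨v, hv, hv0⟩ := Submodule.exists_mem_ne_zero_of_ne_bot hW
    choose c hc using fun a : H => hsc (a : G) a.2
    have hone : c 1 = 1 := by
      have := hc 1 v hv
      rw [OneMemClass.coe_one, map_one] at this
      exact (smul_left_injective k hv0 (by simpa using this.symm))
    have hmul : ∀ a b : H, c (a * b) = c a * c b := fun a b => by
      refine smul_left_injective k hv0 ?_
      show c (a * b) • v = (c a * c b) • v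
      rw [← hc (a * b) v hv, Subgroup.coe_mul, map_mul, Module.End.mul_apply, hc b v hv, map_smul, hc a v hv,
        smul_smul, mul_comm]
    let χ₀ : H →* k := { toFun := c, map_one' := hone, map_mul' := hmul }
    exact ⟨v, hv, hv0, χ₀.toHomUnits, fun a => hc a v hv⟩
  push Not at hsc
  obtain ⟨a, ha, hns⟩ := hsc
  let f : Module.End k W := (ρ a).restrict (hst a ha)
  obtain ⟨c, hc⟩ := Module.End.exists_eigenvalue f
  let E : Submodule k V := (Module.End.eigenspace f c).map W.subtype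
  have hE : ∀ x, x ∈ E ↔ x ∈ W ∧ ρ a x = c • x := by
    intro x
    constructor
    · rintro ⟨y, hy, rfl⟩
      exact ⟨y.2, congrArg Subtype.val (Module.End.mem_eigenspace_iff.mp hy)⟩
    · rintro ⟨hx, he⟩
      exact ⟨⟨x, hx⟩, Module.End.mem_eigenspace_iff.mpr (Subtype.ext he), rfl⟩
  have hlt : E < W := by
    refine lt_of_le_of_ne (fun x hx => ((hE x).mp hx).1) fun e => ?_
    obtain ⟨x, hx, hne⟩ := hns c
    exact hne ((hE x).mp (e.symm ▸ hx)).2
  have hne : E ≠ ⊥ := by
    obtain ⟨y, hy, hy0⟩ := Submodule.exists_mem_ne_zero_of_ne_bot hc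
    intro e
    refine hy0 (Subtype.ext ?_)
    have : (y : V) ∈ E := ⟨y, hy, rfl⟩
    rwa [e, Submodule.mem_bot] at this
  obtain ⟨v, hv, r⟩ := IH (finrank k E) (hd ▸ Submodule.finrank_lt_finrank_of_lt hlt) E rfl hne (by
    intro b hb x hx
    obtain ⟨h1, h2⟩ := (hE x).mp hx
    refine (hE _).mpr ⟨hst b hb x h1, ?_⟩
    rw [← Module.End.mul_apply, ← map_mul, hH a ha b hb, map_mul, Module.End.mul_apply, h2, map_smul])
  exact ⟨v, hlt.le hv, r⟩

variable {F : Type*} [Field F] {ι : Type*} (A : Ax G p F ι)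

/-- Fixed by `U`, and `H` acts by `χ`. -/
structure Wt {V : Type w} [AddCommGroup V] [Module k V] (ρ : Representation k G V) (v : V)
    (χ : A.H →* kˣ) : Prop where
  fix : ∀ u ∈ A.U, ρ u v = v
  wt : ∀ a : A.H, ρ (a : G) v = (χ a : k) • v

/-- Every nonzero representation has a weight vector. -/
theorem exists_wt [IsAlgClosed k] {V : Type w} [AddCommGroup V] [Module k V] [FiniteDimensional k V]
    [Nontrivial V] (ρ : Representation k G V) : ∃ (v : V) (χ : A.H →* kˣ), v ≠ 0 ∧ Wt A ρ v χ := by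
  obtain ⟨v₀, hv₀, hfix⟩ := exists_fixed ρ A.pU
  let W : Submodule k V := ⨅ u : A.U, LinearMap.eqLocus (ρ (u : G)) LinearMap.id
  have hW : ∀ x, x ∈ W ↔ ∀ u ∈ A.U, ρ u x = x := fun x => by
    simp only [W, Submodule.mem_iInf, LinearMap.mem_eqLocus, LinearMap.id_coe, id_eq, Subtype.forall]
  have hne : W ≠ ⊥ := fun e => hv₀ (by
    have : v₀ ∈ W := (hW v₀).mpr hfix
    rwa [e, Submodule.mem_bot] at this)
  obtain ⟨v, hv, hv0, χ, hχ⟩ := exists_eigen ρ A.H A.H_comm _ W rfl hne (by
    intro a ha x hx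
    refine (hW _).mpr fun u hu => ?_
    have hu' : a⁻¹ * u * a ∈ A.U := by
      have := A.H_U a⁻¹ (inv_mem ha) u hu
      rwa [inv_inv] at this
    rw [← Module.End.mul_apply, ← map_mul, show u * a = a * (a⁻¹ * u * a) by group, map_mul, Module.End.mul_apply,
      (hW x).mp hx _ hu'])
  exact ⟨v, χ, hv0, ⟨(hW v).mp hv, hχ⟩⟩

theorem Wt.twist_fix {V : Type w} [AddCommGroup V] [Module k V] {ρ : Representation k G V} {v : V}
    {χ : A.H →* kˣ} (hv : Wt A ρ v χ) {g u : G} (hu : u ∈ A.U) : ρ (g * u) v = ρ g v := by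
  rw [map_mul, Module.End.mul_apply, hv.fix u hu]

theorem Wt.twist_H {V : Type w} [AddCommGroup V] [Module k V] {ρ : Representation k G V} {v : V}
    {χ : A.H →* kˣ} (hv : Wt A ρ v χ) (g : G) {a : G} (ha : a ∈ A.H) :
    ρ (g * a) v = (χ ⟨a, ha⟩ : k) • ρ g v := by
  rw [map_mul, Module.End.mul_apply, hv.wt ⟨a, ha⟩, map_smul]

end CfsgLib.Modular
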